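import Cfsg.Prelude.Def_ChevAutomorphisms
import Cfsg.Agent.ChevalleyStructure.ConjSimpleAll
import Cfsg.Agent.ChevalleyStructure.Elts
import Cfsg.Agent.ChevalleyStructure.Reach
set_option linter.all false

/-!
# The Chevalley group is generated by the fundamental root elements and their negatives

`xS hD r t` is the root element `x_r(t)` as an element of the Chevalley group, `nS hD r t` the element `n_r(t)`.
`induction_simple` : a subgroup of the Chevalley group containing `x_{p_i}(t)` and `x_{-p_i}(t)` for all fundamental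
roots `p_i` is everything; `hom_ext` : two homomorphisms agreeing on these elements are equal.
All for the seven tabulated types and any field.
-/

set_option autoImplicit false

namespace Cfsg.Agent.H79.SimpleGen

open Cfsg.Lie
open Cfsg.Agent.ChevalleyStructure
open Cfsg.Agent.ChevalleyStructure.Elts

universe u

variable {F : Type u} [Field F] {D : ChevalleyDatum}

/-- The root element `x_r(t)` as an element of the Chevalley group. -/
def xS (hD : InList D) (r : ℕ) (t : F) : ↥(D.group F) := ⟨xG hD r t, xG_mem_group hD r t⟩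

/-- The element `n_r(t)` as an element of the Chevalley group. -/
def nS (hD : InList D) (r : ℕ) (t : F) : ↥(D.group F) := ⟨nG hD r t, nG_mem_group hD r t⟩

@[simp] theorem coe_xS (hD : InList D) (r : ℕ) (t : F) : ((xS hD r t : ↥(D.group F)) : GL D.Idx F) = xG hD r t := rfl

@[simp] theorem coe_nS (hD : InList D) (r : ℕ) (t : F) : ((nS hD r t : ↥(D.group F)) : GL D.Idx F) = nG hD r t := rfl

theorem eq_xS_iff (hD : InList D) (g : ↥(D.group F)) (r : ℕ) (t : F) :
    g = xS hD r t ↔ ((g : GL D.Idx F) : Matrix D.Idx D.Idx F) = D.x F r t := by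
  rw [← eq_xG_iff hD]
  exact Subtype.ext_iff

theorem mat_xS (hD : InList D) (r : ℕ) (t : F) :
    (((xS hD r t : ↥(D.group F)) : GL D.Idx F) : Matrix D.Idx D.Idx F) = D.x F r t := rfl

theorem xS_mul (hD : InList D) (r : ℕ) (t u : F) : xS hD r t * xS hD r u = xS hD r (t + u) :=
  Subtype.ext (xG_add hD r t u)

theorem xS_zero (hD : InList D) (r : ℕ) : xS hD r (0 : F) = 1 := Subtype.ext (xG_zero hD r)

theorem xS_inv (hD : InList D) (r : ℕ) (t : F) : (xS hD r t)⁻¹ = xS hD r (-t) := Subtype.ext (xG_inv hD r t)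

theorem xS_injective (hD : InList D) {r : ℕ} (hr : r < D.nroots) : Function.Injective (xS (F := F) hD r) := by
  intro t u h
  exact xG_injective hD hr (congrArg Subtype.val h)

theorem nS_def (hD : InList D) (r : ℕ) (t : F) :
    nS hD r t = xS hD r t * (xS hD (D.neg r) (-t⁻¹) * xS hD r t) := Subtype.ext (nG_def hD r t)

theorem simple_lt (hD : InList D) {i : ℕ} (hi : i < D.rank) : D.simple i < D.nroots :=
  (RootComb.good_of_mem hD).simple_lt hi

theorem neg_simple_lt (hD : InList D) {i : ℕ} (hi : i < D.rank) : D.neg (D.simple i) < D.nroots :=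
  Reach.neg_lt hD (simple_lt hD hi)

/-- Conjugation of a root element by `n_{p_i}`. -/
theorem nS_mul_xS (hD : InList D) {i s : ℕ} (hi : i < D.rank) (hs : s < D.nroots) (t : F) :
    nS hD (D.simple i) 1 * xS hD s t =
      xS hD (D.reflectRoot i s) (((NSimple.eta D i s : ℤ) : F) * t) * nS hD (D.simple i) 1 := by
  apply Subtype.ext
  apply Units.ext
  exact ConjSimpleAll.nMat_mul_x hD hi hs t

theorem eta_cases (hD : InList D) {i s : ℕ} (hi : i < D.rank) (hs : s < D.nroots) :
    NSimple.eta D i s = 1 ∨ NSimple.eta D i s = -1 :=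
  (NSimpleAll.facts hD hi).eta_one s hs

theorem eta_mul_self (hD : InList D) {i s : ℕ} (hi : i < D.rank) (hs : s < D.nroots) :
    ((NSimple.eta D i s : ℤ) : F) * ((NSimple.eta D i s : ℤ) : F) = 1 := by
  rcases eta_cases hD hi hs with h | h <;> rw [h] <;> simp

/-- A reflected root element as a conjugate. -/
theorem xS_reflect (hD : InList D) {i s : ℕ} (hi : i < D.rank) (hs : s < D.nroots) (t : F) :
    xS hD (D.reflectRoot i s) t =
      nS hD (D.simple i) 1 * xS hD s (((NSimple.eta D i s : ℤ) : F) * t) * (nS hD (D.simple i) 1)⁻¹ := by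
  rw [nS_mul_xS hD hi hs, ← mul_assoc, eta_mul_self hD hi hs, one_mul, mul_inv_cancel_right]

/-- A subgroup of the Chevalley group containing all root elements is everything. -/
theorem eq_top_of_xS_mem (hD : InList D) (K : Subgroup ↥(D.group F))
    (h : ∀ r < D.nroots, ∀ t : F, xS hD r t ∈ K) : K = ⊤ := by
  rw [eq_top_iff]
  have h1 : D.group F ≤ K.map (D.group F).subtype := by
    unfold ChevalleyDatum.group
    rw [Subgroup.closure_le]
    rintro g ⟨r, t, hg⟩
    refine ⟨xS hD r.val t, h r.val r.isLt t, ?_⟩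
    apply Units.ext
    show D.x F r.val t = _
    rw [hg, x_of_lt r.isLt]
  intro x _
  obtain ⟨y, hy, hyx⟩ := h1 x.2
  have : y = x := Subtype.ext hyx
  rwa [← this]

/-- A subgroup containing the fundamental root elements and their negatives is everything. -/
theorem eq_top_of_simple (hD : InList D) (K : Subgroup ↥(D.group F))
    (h1 : ∀ i < D.rank, ∀ t : F, xS hD (D.simple i) t ∈ K)
    (h2 : ∀ i < D.rank, ∀ t : F, xS hD (D.neg (D.simple i)) t ∈ K) : K = ⊤ := by
  apply eq_top_of_xS_mem hD K
  have hn : ∀ i < D.rank, nS hD (D.simple i) (1 : F) ∈ K := by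
    intro i hi
    rw [nS_def]
    exact K.mul_mem (h1 i hi _) (K.mul_mem (h2 i hi _) (h1 i hi _))
  refine Reach.reach hD (fun s => ∀ t : F, xS hD s t ∈ K) h1 ?_
  intro i hi s hs ih t
  rw [xS_reflect hD hi hs]
  exact K.mul_mem (K.mul_mem (hn i hi) (ih _)) (K.inv_mem (hn i hi))

/-- Two homomorphisms agreeing on the fundamental root elements and their negatives are equal. -/
theorem hom_ext (hD : InList D) {H : Type*} [Group H] (f g : ↥(D.group F) →* H)
    (h1 : ∀ i < D.rank, ∀ t : F, f (xS hD (D.simple i) t) = g (xS hD (D.simple i) t))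
    (h2 : ∀ i < D.rank, ∀ t : F, f (xS hD (D.neg (D.simple i)) t) = g (xS hD (D.neg (D.simple i)) t)) :
    f = g := by
  have h : f.eqLocus g = ⊤ := eq_top_of_simple hD _ h1 h2
  ext x
  have : x ∈ f.eqLocus g := by rw [h]; trivial
  exact this

/-- Two automorphisms agreeing on the fundamental root elements and their negatives are equal. -/
theorem equiv_ext (hD : InList D) {H : Type*} [Group H] (f g : ↥(D.group F) ≃* H)
    (h1 : ∀ i < D.rank, ∀ t : F, f (xS hD (D.simple i) t) = g (xS hD (D.simple i) t))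
    (h2 : ∀ i < D.rank, ∀ t : F, f (xS hD (D.neg (D.simple i)) t) = g (xS hD (D.neg (D.simple i)) t)) :
    f = g := by
  have h := hom_ext hD f.toMonoidHom g.toMonoidHom h1 h2
  apply MulEquiv.ext
  intro x
  exact DFunLike.congr_fun h x

/-- The subgroup of `GL` generated by the fundamental root elements and their negatives is the Chevalley group. -/
theorem closure_eq_group (hD : InList D) :
    Subgroup.closure {g : GL D.Idx F | ∃ i < D.rank, ∃ t : F,
      g = xG hD (D.simple i) t ∨ g = xG hD (D.neg (D.simple i)) t} = D.group F := by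
  apply le_antisymm
  · rw [Subgroup.closure_le]
    rintro g ⟨i, _, t, rfl | rfl⟩
    · exact xG_mem_group hD _ _
    · exact xG_mem_group hD _ _
  · set K := Subgroup.closure {g : GL D.Idx F | ∃ i < D.rank, ∃ t : F,
      g = xG hD (D.simple i) t ∨ g = xG hD (D.neg (D.simple i)) t} with hK
    have h := eq_top_of_simple (F := F) hD (K.comap (D.group F).subtype)
      (fun i hi t => Subgroup.subset_closure ⟨i, hi, t, Or.inl rfl⟩)
      (fun i hi t => Subgroup.subset_closure ⟨i, hi, t, Or.inr rfl⟩)
    intro x hx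
    have : (⟨x, hx⟩ : ↥(D.group F)) ∈ K.comap (D.group F).subtype := by rw [h]; trivial
    exact this

/-! ### Field and graph automorphisms on elements -/

/-- The action of a field automorphism on root elements. -/
theorem field_apply (hD : InList D) {φ : ↥(D.group F) ≃* ↥(D.group F)} {σ : F ≃+* F}
    (h : ∀ (g : ↥(D.group F)) (r : ℕ) (t : F), r < D.nroots →
      ((g : GL D.Idx F) : Matrix D.Idx D.Idx F) = D.x F r t →
        ((φ g : GL D.Idx F) : Matrix D.Idx D.Idx F) = D.x F r (σ t)) {r : ℕ} (hr : r < D.nroots) (t : F) :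
    φ (xS hD r t) = xS hD r (σ t) :=
  (eq_xS_iff hD _ _ _).2 (h _ r t hr rfl)

/-- The action of a graph automorphism on fundamental root elements. -/
theorem graph_apply (hD : InList D) {φ : ↥(D.group F) ≃* ↥(D.group F)} {π : Equiv.Perm (Fin D.rank)}
    {e : Fin D.rank → ℕ}
    (h : ∀ (g : ↥(D.group F)) (i : Fin D.rank) (t : F),
      (((g : GL D.Idx F) : Matrix D.Idx D.Idx F) = D.x F (D.simple i) t →
        ((φ g : GL D.Idx F) : Matrix D.Idx D.Idx F) = D.x F (D.simple (π i)) (t ^ e i)) ∧
      (((g : GL D.Idx F) : Matrix D.Idx D.Idx F) = D.x F (D.neg (D.simple i)) t →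
        ((φ g : GL D.Idx F) : Matrix D.Idx D.Idx F) = D.x F (D.neg (D.simple (π i))) (t ^ e i)))
    (i : Fin D.rank) (t : F) :
    φ (xS hD (D.simple i) t) = xS hD (D.simple (π i)) (t ^ e i) ∧
      φ (xS hD (D.neg (D.simple i)) t) = xS hD (D.neg (D.simple (π i))) (t ^ e i) :=
  ⟨(eq_xS_iff hD _ _ _).2 ((h _ i t).1 rfl), (eq_xS_iff hD _ _ _).2 ((h _ i t).2 rfl)⟩

end Cfsg.Agent.H79.SimpleGen
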