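import Cfsg.Prelude.Def_ChevAutomorphisms
import Cfsg.Agent.ChevalleyStructure.Good
import Cfsg.Agent.H79.SimpleGen
set_option linter.all false

/-!
# Conjugation of root elements by the diagonal matrix of a character of the root lattice

`charDiag_mul_x : ĥ(χ) x_r(t) = x_r(χ(r) t) ĥ(χ)` for the seven tabulated types, `charDiag_conj` (S2157), the element
`hatG` of the general linear group, and the automorphism `diagAut` of the Chevalley group given by conjugation.
-/

set_option autoImplicit false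

namespace Cfsg.Agent.H79.CharDiag

open Cfsg.Lie
open Cfsg.Agent.ChevalleyStructure
open Cfsg.Agent.ChevalleyStructure.Elts
open Cfsg.Agent.ChevalleyStructure.Columns
open Cfsg.Agent.ChevalleyStructure.Additive
open Cfsg.Agent.H79.SimpleGen

universe u

variable {F : Type u} [Field F] {D : ChevalleyDatum}

theorem chainRoot_one (r s : ℕ) : D.chainRoot r s 1 = ((D.chainEntry r s)[0]?).map Prod.fst := rfl

/-- A character of the root lattice along a chain. -/
theorem chSum_char {χ : ℕ → Fˣ} (hχ : D.IsRootCharacter χ) {r s : ℕ} (hr : r < D.nroots) (hs : s < D.nroots)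
    (h : GoodAt D r) (g : ℕ → F) (t : F) :
    chSum (fun u => (χ u : F) * g u) t 1 (D.chainEntry r s) =
      (χ s : F) * chSum g ((χ r : F) * t) 1 (D.chainEntry r s) := by
  have hent := h.ent s
  have hlt := h.lt s
  have hstep : ∀ v : ℕ, v < D.nroots → ∀ (u : ℕ) (M : ℤ) (l : List (ℕ × ℤ)), D.chainEntry r v = (u, M) :: l →
      (χ u : F) = (χ r : F) * (χ v : F) := by
    intro v hv u M l hl
    have h1 : D.chainRoot r v 1 = some u := by
      rw [chainRoot_one, hl]
      rfl
    rw [hχ.2 r v u hr hv h1, Units.val_mul]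
  generalize hl : D.chainEntry r s = l at hent hlt
  cases hent with
  | nil => simp [chSum_nil]
  | one u₁ M₁ h₁ =>
    have e1 := hstep s hs u₁ M₁ _ hl
    simp only [chSum_cons, chSum_nil, e1]
    ring
  | two u₁ M₁ u₂ M₂ a h₁ h₂ ha =>
    have e1 := hstep s hs u₁ M₁ _ hl
    have e2 := hstep u₁ (hlt (u₁, M₁) (by simp)) u₂ a _ h₁
    simp only [chSum_cons, chSum_nil, e2, e1]
    ring
  | three u₁ M₁ u₂ M₂ u₃ M₃ a b c h₁ h₂ h₃ ha hb hc =>
    have e1 := hstep s hs u₁ M₁ _ hl
    have e2 := hstep u₁ (hlt (u₁, M₁) (by simp)) u₂ a _ h₁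
    have e3 := hstep u₂ (hlt (u₂, M₂) (by simp)) u₃ c _ h₂
    simp only [chSum_cons, chSum_nil, e3, e2, e1]
    ring

/-- The weight of a coordinate. -/
def wt (χ : ℕ → Fˣ) : D.Idx → F := Sum.elim (fun _ => (1 : F)) (fun r => (χ r.val : F))

theorem wt_mul_dl (χ : ℕ → Fˣ) (v : D.Idx) (u : ℕ) : wt χ v * dl F D v u = (χ u : F) * dl F D v u := by
  rcases v with i | w
  · rw [dl_inl, mul_zero, mul_zero]
  · rw [dl_inr]
    by_cases h : w.val = u
    · rw [if_pos h, ← h]
      rfl
    · rw [if_neg h, mul_zero, mul_zero]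

theorem wt_mul_inl (χ : ℕ → Fˣ) (v : D.Idx) (i : Fin D.rank) :
    wt χ v * (if v = Sum.inl i then (1 : F) else 0) = if v = Sum.inl i then 1 else 0 := by
  by_cases h : v = Sum.inl i
  · rw [if_pos h, h]
    simp [wt]
  · rw [if_neg h, mul_zero]

theorem mul_chSum (a : F) (f : ℕ → F) (t : F) : ∀ (k : ℕ) (l : List (ℕ × ℤ)),
    a * chSum f t k l = chSum (fun u => a * f u) t k l
  | _, [] => by simp [chSum_nil]
  | k, e :: l => by
    rw [chSum_cons, chSum_cons, mul_add, mul_chSum a f t (k + 1) l]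
    ring

/-- `ĥ(χ) x_r(t) = x_r(χ(r) t) ĥ(χ)`. -/
theorem charDiag_mul_xMat {χ : ℕ → Fˣ} (hχ : D.IsRootCharacter χ) (r : Fin D.nroots) (h : GoodAt D r.val) (t : F) :
    D.charDiag F χ * D.xMat F r t = D.xMat F r ((χ r.val : F) * t) * D.charDiag F χ := by
  have hc : D.charDiag F χ = Matrix.diagonal (wt χ) := rfl
  rw [hc]
  ext v c
  rw [Matrix.diagonal_mul, Matrix.mul_diagonal]
  rcases c with i | s
  · rw [xMat_inl, xMat_inl]
    have h1 := wt_mul_inl χ v i
    have h2 := wt_mul_dl χ v r.val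
    have h3 : wt (D := D) χ (Sum.inl i) = 1 := rfl
    rw [h3]
    linear_combination h1 - ((car D i.val r.val : ℤ) : F) * t * h2
  · have h3 : wt (D := D) χ (Sum.inr s) = (χ s.val : F) := rfl
    rw [h3]
    by_cases hsr : s = r
    · subst hsr
      rw [xMat_self, xMat_self, wt_mul_dl]
      ring
    · by_cases hs : s.val = D.negIdx.getD r.val 0
      · rw [xMat_neg D r t v s hs hsr, xMat_neg D r _ v s hs hsr]
        have h4 : (χ s.val : F) * (χ r.val : F) = 1 := by
          have h5 : χ s.val = (χ r.val)⁻¹ := by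
            rw [hs]
            exact hχ.1 r.val r.isLt
          rw [h5, Units.inv_mul]
        have e1 := wt_mul_dl χ v s.val
        have e2 := wt_mul_dl χ v r.val
        have e3 : wt χ v * (∑ i : Fin D.rank, (cor D r.val i.val : F) * t * (if v = Sum.inl i then 1 else 0)) =
            (χ s.val : F) * (∑ i : Fin D.rank, (cor D r.val i.val : F) * ((χ r.val : F) * t) *
              (if v = Sum.inl i then 1 else 0)) := by
          rw [Finset.mul_sum, Finset.mul_sum]
          apply Finset.sum_congr rfl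
          intro i _
          have := wt_mul_inl χ v i
          have e4 : (χ s.val : F) * ((cor D r.val i.val : F) * ((χ r.val : F) * t) *
              (if v = Sum.inl i then (1 : F) else 0)) = ((χ s.val : F) * (χ r.val : F)) *
              ((cor D r.val i.val : F) * t * (if v = Sum.inl i then (1 : F) else 0)) := by ring
          rw [e4, h4, one_mul]
          linear_combination ((cor D r.val i.val : ℤ) : F) * t * this
        linear_combination e1 + e3 - t ^ 2 * e2 + (χ r.val : F) * t ^ 2 * dl F D v r.val * h4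
      · rw [xMat_ne D r t v s hs hsr h.sorted, xMat_ne D r _ v s hs hsr h.sorted, mul_add, wt_mul_dl, mul_chSum]
        have e1 : chSum (fun u => wt χ v * dl F D v u) t 1 (D.chainEntry r.val s.val) =
            chSum (fun u => (χ u : F) * dl F D v u) t 1 (D.chainEntry r.val s.val) := by
          apply chSum_congr
          intro e _
          exact wt_mul_dl χ v e.1
        rw [e1, chSum_char hχ r.isLt s.isLt h]
        ring

theorem charDiag_mul_x (hD : InList D) {χ : ℕ → Fˣ} (hχ : D.IsRootCharacter χ) {r : ℕ} (hr : r < D.nroots) (t : F) :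
    D.charDiag F χ * D.x F r t = D.x F r ((χ r : F) * t) * D.charDiag F χ := by
  rw [x_of_lt hr, x_of_lt hr]
  exact charDiag_mul_xMat hχ ⟨r, hr⟩ (Good.goodAt_of_mem D hD r hr) t

theorem charDiag_mul_inv (χ : ℕ → Fˣ) : D.charDiag F χ * D.charDiag F (fun s => (χ s)⁻¹) = 1 := by
  unfold ChevalleyDatum.charDiag
  rw [Matrix.diagonal_mul_diagonal, ← Matrix.diagonal_one]
  congr 1
  funext c
  rcases c with c | c <;> simp

theorem charDiag_inv_mul (χ : ℕ → Fˣ) : D.charDiag F (fun s => (χ s)⁻¹) * D.charDiag F χ = 1 := by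
  unfold ChevalleyDatum.charDiag
  rw [Matrix.diagonal_mul_diagonal, ← Matrix.diagonal_one]
  congr 1
  funext c
  rcases c with c | c <;> simp

theorem charDiag_conj (hD : InList D) {χ : ℕ → Fˣ} (hχ : D.IsRootCharacter χ) {r : ℕ} (hr : r < D.nroots) (t : F) :
    D.charDiag F χ * D.x F r t * D.charDiag F (fun s => (χ s)⁻¹) = D.x F r ((χ r : F) * t) := by
  rw [charDiag_mul_x hD hχ hr, Matrix.mul_assoc, charDiag_mul_inv, Matrix.mul_one]

/-- The diagonal matrix of `χ` as an element of the general linear group. -/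
def hatG (D : ChevalleyDatum) (χ : ℕ → Fˣ) : GL D.Idx F :=
  ⟨D.charDiag F χ, D.charDiag F (fun s => (χ s)⁻¹), charDiag_mul_inv χ, charDiag_inv_mul χ⟩

theorem coe_hatG (χ : ℕ → Fˣ) : ((hatG D χ : GL D.Idx F) : Matrix D.Idx D.Idx F) = D.charDiag F χ := rfl

theorem coe_hatG_inv (χ : ℕ → Fˣ) :
    (((hatG D χ)⁻¹ : GL D.Idx F) : Matrix D.Idx D.Idx F) = D.charDiag F (fun s => (χ s)⁻¹) := rfl

theorem hatG_conj_xG (hD : InList D) {χ : ℕ → Fˣ} (hχ : D.IsRootCharacter χ) {r : ℕ} (hr : r < D.nroots) (t : F) :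
    hatG D χ * xG hD r t * (hatG D χ)⁻¹ = xG hD r ((χ r : F) * t) := by
  apply Units.ext
  exact charDiag_conj hD hχ hr t

theorem map_group_le (hD : InList D) {χ : ℕ → Fˣ} (hχ : D.IsRootCharacter χ) :
    (D.group F).map (MulAut.conj (hatG D χ)).toMonoidHom ≤ D.group F := by
  rw [Subgroup.map_le_iff_le_comap]
  unfold ChevalleyDatum.group
  rw [Subgroup.closure_le]
  rintro g ⟨r, t, hg⟩
  have hg' : g = xG hD r.val t := by
    rw [eq_xG_iff, x_of_lt r.isLt]
    exact hg
  subst hg'
  show (MulAut.conj (hatG D χ)) (xG hD r.val t) ∈ D.group F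
  rw [MulAut.conj_apply, hatG_conj_xG hD hχ r.isLt]
  exact xG_mem_group hD _ _

theorem inv_isRootCharacter {χ : ℕ → Fˣ} (hχ : D.IsRootCharacter χ) : D.IsRootCharacter (fun s => (χ s)⁻¹) := by
  refine ⟨fun r hr => ?_, fun r s k hr hs hk => ?_⟩
  · simp only
    rw [hχ.1 r hr]
  · simp only
    rw [hχ.2 r s k hr hs hk, mul_inv]

theorem hatG_inv (χ : ℕ → Fˣ) : (hatG D χ)⁻¹ = hatG D (fun s => (χ s)⁻¹) := Units.ext rfl

theorem map_group (hD : InList D) {χ : ℕ → Fˣ} (hχ : D.IsRootCharacter χ) :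
    (D.group F).map (MulAut.conj (hatG D χ)).toMonoidHom = D.group F := by
  apply le_antisymm (map_group_le hD hχ)
  intro g hg
  have h1 := map_group_le (F := F) hD (inv_isRootCharacter hχ) ⟨g, hg, rfl⟩
  refine ⟨_, h1, ?_⟩
  show (MulAut.conj (hatG D χ)) ((MulAut.conj (hatG D fun s => (χ s)⁻¹)) g) = g
  rw [← hatG_inv, MulAut.conj_apply, MulAut.conj_apply]
  group

/-- The diagonal automorphism of the Chevalley group attached to a character of the root lattice. -/
noncomputable def diagAut (hD : InList D) {χ : ℕ → Fˣ} (hχ : D.IsRootCharacter χ) : MulAut ↥(D.group F) :=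
  ((MulAut.conj (hatG D χ)).subgroupMap (D.group F)).trans (MulEquiv.subgroupCongr (map_group hD hχ))

theorem coe_diagAut (hD : InList D) {χ : ℕ → Fˣ} (hχ : D.IsRootCharacter χ) (g : ↥(D.group F)) :
    ((diagAut hD hχ g : ↥(D.group F)) : GL D.Idx F) = hatG D χ * (g : GL D.Idx F) * (hatG D χ)⁻¹ := rfl

theorem diagAut_xS (hD : InList D) {χ : ℕ → Fˣ} (hχ : D.IsRootCharacter χ) {r : ℕ} (hr : r < D.nroots) (t : F) :
    diagAut hD hχ (xS hD r t) = xS hD r ((χ r : F) * t) := by
  apply Subtype.ext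
  rw [coe_diagAut]
  exact hatG_conj_xG hD hχ hr t

theorem diagAut_isDiagonal (hD : InList D) {χ : ℕ → Fˣ} (hχ : D.IsRootCharacter χ) :
    D.IsDiagonalAut (diagAut (F := F) hD hχ) := ⟨χ, hχ, fun _ => rfl⟩

/-- A diagonal automorphism in the sense of the Prelude is one of these. -/
theorem eq_diagAut (hD : InList D) {φ : MulAut ↥(D.group F)} (h : D.IsDiagonalAut φ) :
    ∃ (χ : ℕ → Fˣ) (hχ : D.IsRootCharacter χ), φ = diagAut hD hχ := by
  obtain ⟨χ, hχ, h⟩ := h
  refine ⟨χ, hχ, ?_⟩
  apply MulEquiv.ext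
  intro g
  apply Subtype.ext
  apply Units.ext
  rw [h g]
  rfl

end Cfsg.Agent.H79.CharDiag
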