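import Cfsg.Agent.S1080
import Cfsg.Agent.H79.SimpleGen
set_option linter.all false

/-!
# The field automorphisms of a Chevalley group as a homomorphism from the automorphism group of the field

`fieldHom hD F : RingAut F →* MulAut (D.group F)` with `fieldHom_xS : fieldHom σ (x_r(t)) = x_r(σ t)`;
`isFieldAut_iff`, `closure_isFieldAut`, and `isCyclic_range` for a finite field.
-/

set_option autoImplicit false

namespace Cfsg.Agent.H79.FieldAuts

open Cfsg.Lie
open Cfsg.Agent.ChevalleyStructure
open Cfsg.Agent.ChevalleyStructure.Elts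
open Cfsg.Agent.H79.SimpleGen

universe u

variable {F : Type u} [Field F] {D : ChevalleyDatum}

/-- The automorphism group of a finite field is cyclic. -/
theorem isCyclic_ringAut (F : Type*) [Field F] [Finite F] : IsCyclic (RingAut F) := by
  obtain ⟨p, hp⟩ := CharP.exists F
  have : Fact p.Prime := ⟨CharP.char_is_prime F p⟩
  let _ := ZMod.algebra F p
  have h1 : IsCyclic (F ≃ₐ[ZMod p] F) := inferInstance
  refine isCyclic_of_surjective
    ({ toFun := fun f => f.toRingEquiv, map_one' := rfl, map_mul' := fun _ _ => rfl } :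
      (F ≃ₐ[ZMod p] F) →* RingAut F) ?_
  intro s
  refine ⟨AlgEquiv.ofRingEquiv (f := s) (fun x => ?_), ?_⟩
  · have h2 : (s : F →+* F).comp (algebraMap (ZMod p) F) = algebraMap (ZMod p) F :=
      Subsingleton.elim _ _
    exact RingHom.congr_fun h2 x
  · ext x
    rfl

/-- Existence of the field automorphism attached to `σ`. -/
theorem exists_field (hD : InList D) (σ : RingAut F) :
    ∃ α : MulAut ↥(D.group F), ∀ r < D.nroots, ∀ t : F, α (xS hD r t) = xS hD r (σ t) := by
  obtain ⟨α, hα⟩ := Cfsg.Agent.S1080.result (F := F) D hD σ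
  exact ⟨α, fun r hr t => (eq_xS_iff hD _ _ _).2 (hα _ r t hr rfl)⟩

/-- The field automorphism attached to `σ`. -/
noncomputable def fieldFun (hD : InList D) (σ : RingAut F) : MulAut ↥(D.group F) :=
  Classical.choose (exists_field hD σ)

theorem fieldFun_xS (hD : InList D) (σ : RingAut F) {r : ℕ} (hr : r < D.nroots) (t : F) :
    fieldFun hD σ (xS hD r t) = xS hD r (σ t) := Classical.choose_spec (exists_field hD σ) r hr t

/-- An automorphism acting as a field automorphism on the fundamental root elements and their negatives. -/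
theorem eq_fieldFun (hD : InList D) (σ : RingAut F) (α : MulAut ↥(D.group F))
    (h1 : ∀ i < D.rank, ∀ t : F, α (xS hD (D.simple i) t) = xS hD (D.simple i) (σ t))
    (h2 : ∀ i < D.rank, ∀ t : F, α (xS hD (D.neg (D.simple i)) t) = xS hD (D.neg (D.simple i)) (σ t)) :
    α = fieldFun hD σ := by
  apply equiv_ext hD
  · intro i hi t
    rw [h1 i hi]
    exact (fieldFun_xS hD σ (simple_lt hD hi) t).symm
  · intro i hi t
    rw [h2 i hi]
    exact (fieldFun_xS hD σ (neg_simple_lt hD hi) t).symm

/-- The field automorphisms as a homomorphism. -/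
noncomputable def fieldHom (hD : InList D) (F : Type u) [Field F] : RingAut F →* MulAut ↥(D.group F) where
  toFun := fieldFun hD
  map_one' := by
    symm
    apply eq_fieldFun
    · intro i hi t; rfl
    · intro i hi t; rfl
  map_mul' σ τ := by
    symm
    apply eq_fieldFun
    · intro i hi t
      rw [MulAut.mul_apply, fieldFun_xS hD τ (simple_lt hD hi), fieldFun_xS hD σ (simple_lt hD hi)]
      rfl
    · intro i hi t
      rw [MulAut.mul_apply, fieldFun_xS hD τ (neg_simple_lt hD hi), fieldFun_xS hD σ (neg_simple_lt hD hi)]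
      rfl

theorem fieldHom_xS (hD : InList D) (σ : RingAut F) {r : ℕ} (hr : r < D.nroots) (t : F) :
    fieldHom hD F σ (xS hD r t) = xS hD r (σ t) := fieldFun_xS hD σ hr t

theorem isFieldAut_iff (hD : InList D) (α : MulAut ↥(D.group F)) :
    D.IsFieldAut α ↔ ∃ σ : RingAut F, α = fieldHom hD F σ := by
  constructor
  · rintro ⟨σ, h⟩
    refine ⟨σ, eq_fieldFun hD σ α ?_ ?_⟩
    · intro i hi t
      exact field_apply hD h (simple_lt hD hi) t
    · intro i hi t
      exact field_apply hD h (neg_simple_lt hD hi) t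
  · rintro ⟨σ, rfl⟩
    refine ⟨σ, fun g r t hr hg => ?_⟩
    rw [(eq_xS_iff hD g r t).2 hg, fieldHom_xS hD σ hr]
    rfl

/-- The subgroup generated by the field automorphisms is the image of the automorphism group of the field. -/
theorem closure_isFieldAut (hD : InList D) (F : Type u) [Field F] :
    Subgroup.closure {φ : MulAut ↥(D.group F) | D.IsFieldAut φ} = (fieldHom hD F).range := by
  apply le_antisymm
  · rw [Subgroup.closure_le]
    intro φ hφ
    obtain ⟨σ, rfl⟩ := (isFieldAut_iff hD φ).1 hφ
    exact ⟨σ, rfl⟩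
  · rintro _ ⟨σ, rfl⟩
    exact Subgroup.subset_closure ((isFieldAut_iff hD _).2 ⟨σ, rfl⟩)

theorem mem_closure_iff (hD : InList D) (φ : MulAut ↥(D.group F)) :
    φ ∈ Subgroup.closure {φ : MulAut ↥(D.group F) | D.IsFieldAut φ} ↔ D.IsFieldAut φ := by
  rw [closure_isFieldAut hD, isFieldAut_iff hD]
  exact ⟨fun ⟨σ, h⟩ => ⟨σ, h.symm⟩, fun ⟨σ, h⟩ => ⟨σ, h.symm⟩⟩

theorem isCyclic_closure (hD : InList D) (F : Type u) [Field F] [Finite F] :
    IsCyclic ↥(Subgroup.closure {φ : MulAut ↥(D.group F) | D.IsFieldAut φ}) := by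
  rw [closure_isFieldAut hD]
  have := isCyclic_ringAut F
  exact isCyclic_of_surjective (fieldHom hD F).rangeRestrict (fieldHom hD F).rangeRestrict_surjective

theorem fieldHom_injective (hD : InList D) (F : Type u) [Field F] : Function.Injective (fieldHom hD F) := by
  intro σ τ h
  have hr : 0 < D.rank := (RootComb.good_of_mem hD).rank_pos
  ext t
  have h1 := fieldHom_xS hD σ (simple_lt hD hr) t
  rw [h, fieldHom_xS hD τ (simple_lt hD hr) t] at h1
  exact (xS_injective hD (simple_lt hD hr) h1).symm

end Cfsg.Agent.H79.FieldAuts
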