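import Mathlib
set_option linter.all false

/-!
# Group theory behind the structure of the outer automorphism group of a Chevalley group

`A` is a group (the automorphism group) with a normal subgroup `I` (inner automorphisms), subgroups `Δ` (diagonal) and
`Φ` (field) and a set `Γ` (graph automorphisms), every element of `A` being a product `i d g f`.
-/

set_option autoImplicit false

namespace Cfsg.Agent.H79.OutAbs

open scoped commutatorElement

variable {A : Type*} [Group A]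

/-- The hypotheses on the diagonal, field and graph automorphisms. -/
structure Data (I Δ Φ : Subgroup A) (Γ : Set A) : Prop where
  fac : ∀ θ : A, ∃ i ∈ I, ∃ d ∈ Δ, ∃ g ∈ Γ, ∃ f ∈ Φ, θ = i * d * g * f
  comm : ∀ d ∈ Δ, ∀ e ∈ Δ, d * e = e * d
  cyc : IsCyclic ↥Φ
  conjΦ : ∀ f ∈ Φ, ∀ d ∈ Δ, f * d * f⁻¹ ∈ Δ
  conjΓ : ∀ g ∈ Γ, ∀ d ∈ Δ, g * d * g⁻¹ ∈ Δ
  commΓ : ∀ g ∈ Γ, ∀ f ∈ Φ, g * f = f * g

variable {I Δ Φ : Subgroup A} {Γ : Set A} [hI : I.Normal]

/-- The image of the diagonal automorphisms in the outer automorphism group. -/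
abbrev Dbar (I Δ : Subgroup A) [I.Normal] : Subgroup (A ⧸ I) := Δ.map (QuotientGroup.mk' I)

theorem mk_mem_Dbar {d : A} (hd : d ∈ Δ) : (QuotientGroup.mk' I) d ∈ Dbar I Δ := ⟨d, hd, rfl⟩

theorem mk_eq_one {i : A} (hi : i ∈ I) : (QuotientGroup.mk' I) i = 1 :=
  (QuotientGroup.eq_one_iff i).2 hi

theorem Dbar_normal (h : Data I Δ Φ Γ) : (Dbar I Δ).Normal := by
  constructor
  rintro _ ⟨e, he, rfl⟩ x
  obtain ⟨θ, rfl⟩ := QuotientGroup.mk'_surjective I x
  obtain ⟨i, hi, d, hd, g, hg, f, hf, rfl⟩ := h.fac θ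
  have h1 : f * e * f⁻¹ ∈ Δ := h.conjΦ f hf e he
  have h2 : g * (f * e * f⁻¹) * g⁻¹ ∈ Δ := h.conjΓ g hg _ h1
  have h3 : d * (g * (f * e * f⁻¹) * g⁻¹) * d⁻¹ ∈ Δ := Δ.mul_mem (Δ.mul_mem hd h2) (Δ.inv_mem hd)
  have h4 : (QuotientGroup.mk' I) (i * d * g * f) * (QuotientGroup.mk' I) e * ((QuotientGroup.mk' I) (i * d * g * f))⁻¹ =
      (QuotientGroup.mk' I) (d * (g * (f * e * f⁻¹) * g⁻¹) * d⁻¹) := by
    simp only [map_mul, map_inv, mk_eq_one hi]
    group
  rw [h4]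
  exact mk_mem_Dbar h3

theorem Dbar_comm (h : Data I Δ Φ Γ) : IsMulCommutative ↥(Dbar I Δ) := by
  constructor
  constructor
  rintro ⟨_, d, hd, rfl⟩ ⟨_, e, he, rfl⟩
  apply Subtype.ext
  show (QuotientGroup.mk' I) d * (QuotientGroup.mk' I) e = (QuotientGroup.mk' I) e * (QuotientGroup.mk' I) d
  rw [← map_mul, ← map_mul, h.comm d hd e he]

theorem Fbar_cyclic (h : Data I Δ Φ Γ) : IsCyclic ↥(Dbar I Φ) := by
  have := h.cyc
  exact isCyclic_of_surjective ((QuotientGroup.mk' I).subgroupMap Φ) ((QuotientGroup.mk' I).subgroupMap_surjective Φ)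

/-- Modulo the diagonal automorphisms the field automorphisms are central. -/
theorem comm_mod (h : Data I Δ Φ Γ) (x : A ⧸ I) {y : A ⧸ I} (hy : y ∈ Dbar I Φ) :
    x * y * x⁻¹ * y⁻¹ ∈ Dbar I Δ := by
  obtain ⟨e, he, rfl⟩ := hy
  obtain ⟨θ, rfl⟩ := QuotientGroup.mk'_surjective I x
  obtain ⟨i, hi, d, hd, g, hg, f, hf, rfl⟩ := h.fac θ
  have hcyc := h.cyc
  have hfe : f * e = e * f := by
    have hc : ∀ a b : ↥Φ, a * b = b * a := by
      let _ := IsCyclic.commGroup (α := ↥Φ)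
      exact fun a b => mul_comm a b
    exact congrArg Subtype.val (hc ⟨f, hf⟩ ⟨e, he⟩)
  have hge : g * e = e * g := h.commΓ g hg e he
  have h1 : e * d⁻¹ * e⁻¹ ∈ Δ := h.conjΦ e he _ (Δ.inv_mem hd)
  have h2 : d * (e * d⁻¹ * e⁻¹) ∈ Δ := Δ.mul_mem hd h1
  have h3 : (QuotientGroup.mk' I) (i * d * g * f) * (QuotientGroup.mk' I) e *
      ((QuotientGroup.mk' I) (i * d * g * f))⁻¹ * ((QuotientGroup.mk' I) e)⁻¹ =
      (QuotientGroup.mk' I) (d * (e * d⁻¹ * e⁻¹)) := by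
    have h4 : g * f * e * f⁻¹ * g⁻¹ = e := by
      rw [mul_assoc g f e, hfe, ← mul_assoc, hge]
      group
    have h5 : (QuotientGroup.mk' I) (i * d * g * f) * (QuotientGroup.mk' I) e *
      ((QuotientGroup.mk' I) (i * d * g * f))⁻¹ * ((QuotientGroup.mk' I) e)⁻¹ =
      (QuotientGroup.mk' I) (d * (g * f * e * f⁻¹ * g⁻¹) * d⁻¹ * e⁻¹) := by
      simp only [map_mul, map_inv, mk_eq_one hi]
      group
    rw [h5, h4]
    congr 1
    group
  rw [h3]
  exact mk_mem_Dbar h2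

theorem sup_normal (h : Data I Δ Φ Γ) : (Dbar I Δ ⊔ Dbar I Φ).Normal := by
  have hn := Dbar_normal h
  constructor
  intro y hy x
  have hle1 : Dbar I Δ ≤ Dbar I Δ ⊔ Dbar I Φ := le_sup_left
  have hle2 : Dbar I Φ ≤ Dbar I Δ ⊔ Dbar I Φ := le_sup_right
  rw [Subgroup.sup_eq_closure] at hy
  refine Subgroup.closure_induction (p := fun y _ => x * y * x⁻¹ ∈ Dbar I Δ ⊔ Dbar I Φ) ?_ ?_ ?_ ?_ hy
  · rintro z (hz | hz)
    · exact hle1 (hn.conj_mem z hz x)
    · have h1 := comm_mod h x hz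
      have h2 : x * z * x⁻¹ = (x * z * x⁻¹ * z⁻¹) * z := by group
      rw [h2]
      exact Subgroup.mul_mem _ (hle1 h1) (hle2 hz)
  · simp
  · intro a b _ _ ha hb
    have : x * (a * b) * x⁻¹ = (x * a * x⁻¹) * (x * b * x⁻¹) := by group
    rw [this]
    exact Subgroup.mul_mem _ ha hb
  · intro a _ ha
    have : x * a⁻¹ * x⁻¹ = (x * a * x⁻¹)⁻¹ := by group
    rw [this]
    exact Subgroup.inv_mem _ ha

/-- Every outer class is, modulo the diagonal and field classes, the class of a graph automorphism. -/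
theorem exists_graph (h : Data I Δ Φ Γ) (x : A ⧸ I) :
    ∃ g ∈ Γ, x * ((QuotientGroup.mk' I) g)⁻¹ ∈ Dbar I Δ ⊔ Dbar I Φ := by
  have hn := sup_normal h
  obtain ⟨θ, rfl⟩ := QuotientGroup.mk'_surjective I x
  obtain ⟨i, hi, d, hd, g, hg, f, hf, rfl⟩ := h.fac θ
  refine ⟨g, hg, ?_⟩
  have h1 : (QuotientGroup.mk' I) (i * d * g * f) * ((QuotientGroup.mk' I) g)⁻¹ =
      (QuotientGroup.mk' I) d * ((QuotientGroup.mk' I) g * (QuotientGroup.mk' I) f * ((QuotientGroup.mk' I) g)⁻¹) := by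
    simp only [map_mul, mk_eq_one hi]
    group
  rw [h1]
  exact Subgroup.mul_mem _ ((le_sup_left : Dbar I Δ ≤ _) (mk_mem_Dbar hd))
    (hn.conj_mem _ ((le_sup_right : Dbar I Φ ≤ _) (mk_mem_Dbar hf)) _)

/-- At most two graph automorphisms: the index is 1 or 2. -/
theorem index_of_two (h : Data I Δ Φ Γ) (g₀ : A) (hΓ : ∀ g ∈ Γ, g = 1 ∨ g = g₀) :
    (Dbar I Δ ⊔ Dbar I Φ).index = 1 ∨ (Dbar I Δ ⊔ Dbar I Φ).index = 2 := by
  have hn := sup_normal h
  set N := Dbar I Δ ⊔ Dbar I Φ with hN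
  let F : Bool → (A ⧸ I) ⧸ N := fun b => if b then 1 else QuotientGroup.mk' N ((QuotientGroup.mk' I) g₀)
  have hF : Function.Surjective F := by
    intro y
    obtain ⟨x, rfl⟩ := QuotientGroup.mk'_surjective N y
    obtain ⟨g, hg, hx⟩ := exists_graph h x
    have h1 : QuotientGroup.mk' N x = QuotientGroup.mk' N ((QuotientGroup.mk' I) g) := by
      have h2 := (QuotientGroup.eq_one_iff (N := N) _).2 hx
      have h3 : QuotientGroup.mk' N (x * ((QuotientGroup.mk' I) g)⁻¹) = 1 := h2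
      rw [map_mul, map_inv, mul_inv_eq_one] at h3
      exact h3
    rcases hΓ g hg with rfl | rfl
    · refine ⟨true, ?_⟩
      rw [h1, map_one, map_one]
      rfl
    · exact ⟨false, h1.symm⟩
  have hfin : Finite ((A ⧸ I) ⧸ N) := Finite.of_surjective F hF
  have hcard : Nat.card ((A ⧸ I) ⧸ N) ≤ 2 := by
    have := Nat.card_le_card_of_surjective F hF
    simpa using this
  have hpos : 0 < Nat.card ((A ⧸ I) ⧸ N) := Nat.card_pos
  have : N.index = Nat.card ((A ⧸ I) ⧸ N) := rfl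
  rw [this]
  omega

/-- a 3-cycle -/
def c3 : Equiv.Perm (Fin 3) := Equiv.swap 0 1 * Equiv.swap 1 2

/-- A group which is an image of the symmetric group on three letters. -/
theorem card_image {Q : Type*} [Group Q] (γ : Equiv.Perm (Fin 3) →* Q) (hγ : Function.Surjective γ) :
    Nat.card Q = 1 ∨ Nat.card Q = 2 ∨ (Nat.card Q = 6 ∧ ¬ ∀ a b : Q, a * b = b * a) := by
  have hfin : Finite Q := Finite.of_surjective γ hγ
  by_cases h3 : γ c3 = 1
  · have key : ∀ x : Equiv.Perm (Fin 3), ∃ k : Fin 3, ∃ b : Bool,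
        x = c3 ^ k.val * (if b then 1 else Equiv.swap 0 1) := by decide
    let F : Bool → Q := fun b => γ (if b then 1 else Equiv.swap 0 1)
    have hF : Function.Surjective F := by
      intro y
      obtain ⟨x, rfl⟩ := hγ y
      obtain ⟨k, b, hx⟩ := key x
      refine ⟨b, ?_⟩
      rw [hx, map_mul, map_pow, h3, one_pow, one_mul]
    have hcard : Nat.card Q ≤ 2 := by
      have := Nat.card_le_card_of_surjective F hF
      simpa using this
    have hpos : 0 < Nat.card Q := Nat.card_pos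
    omega
  · have key : ∀ x : Equiv.Perm (Fin 3), x ≠ 1 →
        ∃ y, c3 = x * (y * x⁻¹ * y⁻¹) ∨ c3 = x ∨ c3 = x⁻¹ := by decide
    have hinj : Function.Injective γ := by
      rw [injective_iff_map_eq_one]
      intro x hx
      by_contra hne
      obtain ⟨y, hy⟩ := key x hne
      apply h3
      rcases hy with hy | hy | hy <;> rw [hy] <;> simp [hx]
    have hb : Function.Bijective γ := ⟨hinj, hγ⟩
    right; right
    constructor
    · rw [← Nat.card_eq_of_bijective γ hb, Nat.card_eq_fintype_card, Fintype.card_perm, Fintype.card_fin]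
      rfl
    · intro hc
      have h1 : (Equiv.swap 0 1 : Equiv.Perm (Fin 3)) * Equiv.swap 1 2 = Equiv.swap 1 2 * Equiv.swap 0 1 := by
        apply hinj
        rw [map_mul, map_mul, hc]
      exact absurd h1 (by decide)

/-- The graph automorphisms form an image of the symmetric group on three letters: the index is 1, 2, or 6 with
non-abelian quotient. -/
theorem index_of_three (h : Data I Δ Φ Γ) (γ : Equiv.Perm (Fin 3) →* A) (hΓ : ∀ g ∈ Γ, ∃ τ, g = γ τ) :
    (Dbar I Δ ⊔ Dbar I Φ).index = 1 ∨ (Dbar I Δ ⊔ Dbar I Φ).index = 2 ∨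
      ((Dbar I Δ ⊔ Dbar I Φ).index = 6 ∧ ¬ commutator (A ⧸ I) ≤ Dbar I Δ ⊔ Dbar I Φ) := by
  have hn := sup_normal h
  set N := Dbar I Δ ⊔ Dbar I Φ with hN
  let γ' : Equiv.Perm (Fin 3) →* (A ⧸ I) ⧸ N := (QuotientGroup.mk' N).comp ((QuotientGroup.mk' I).comp γ)
  have hγ' : Function.Surjective γ' := by
    intro y
    obtain ⟨x, rfl⟩ := QuotientGroup.mk'_surjective N y
    obtain ⟨g, hg, hx⟩ := exists_graph h x
    obtain ⟨τ, rfl⟩ := hΓ g hg
    refine ⟨τ, ?_⟩
    have h3 : QuotientGroup.mk' N (x * ((QuotientGroup.mk' I) (γ τ))⁻¹) = 1 := (QuotientGroup.eq_one_iff (N := N) _).2 hx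
    rw [map_mul, map_inv, mul_inv_eq_one] at h3
    exact h3.symm
  have hidx : N.index = Nat.card ((A ⧸ I) ⧸ N) := rfl
  rw [hidx]
  rcases card_image γ' hγ' with h1 | h1 | ⟨h1, h2⟩
  · exact Or.inl h1
  · exact Or.inr (Or.inl h1)
  · refine Or.inr (Or.inr ⟨h1, ?_⟩)
    intro hc
    apply h2
    intro a b
    obtain ⟨a, rfl⟩ := QuotientGroup.mk'_surjective N a
    obtain ⟨b, rfl⟩ := QuotientGroup.mk'_surjective N b
    have h3 : ⁅a, b⁆ ∈ N := hc (Subgroup.commutator_mem_commutator (Subgroup.mem_top a) (Subgroup.mem_top b))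
    have h4 : QuotientGroup.mk' N ⁅a, b⁆ = 1 := (QuotientGroup.eq_one_iff (N := N) _).2 h3
    rw [map_commutatorElement, commutatorElement_eq_one_iff_mul_comm] at h4
    exact h4

end Cfsg.Agent.H79.OutAbs
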