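import Cfsg.Agent.S1081
import Cfsg.Agent.H79.SimpleGen
import Cfsg.Agent.H79.DiagSymm
import Cfsg.Agent.H79.OutAbs
set_option linter.all false

/-!
# The graph automorphisms of the Chevalley group of type `D₄`

`IsG hD π α` : the automorphism `α` sends `x_{±p_i}(t)` to `x_{±p_{π i}}(t)`. For `D₄` such an automorphism exists for
every symmetry of the diagram: `exists_isG_D4`; `extD4` is the embedding of the symmetric group on three letters into
the symmetries of the diagram and `gammaD4` the homomorphism to the automorphism group.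
-/

set_option autoImplicit false

namespace Cfsg.Agent.H79.GraphD4

open Cfsg.Lie
open Cfsg.Agent.ChevalleyStructure
open Cfsg.Agent.ChevalleyStructure.Elts
open Cfsg.Agent.ChevalleyStructure.SignedSymm
open Cfsg.Agent.H79.SimpleGen

universe u

variable {F : Type u} [Field F] {D : ChevalleyDatum}

/-- `α` sends `x_{±p_i}(t)` to `x_{±p_{π i}}(t)`. -/
def IsG (hD : InList D) (F : Type u) [Field F] (π : Equiv.Perm (Fin D.rank)) (α : MulAut ↥(D.group F)) : Prop :=
  ∀ (i : Fin D.rank) (t : F), α (xS hD (D.simple i) t) = xS hD (D.simple (π i)) t ∧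
    α (xS hD (D.neg (D.simple i)) t) = xS hD (D.neg (D.simple (π i))) t

theorem IsG.one (hD : InList D) : IsG hD F 1 1 := fun _ _ => ⟨rfl, rfl⟩

theorem IsG.mul {hD : InList D} {π ρ : Equiv.Perm (Fin D.rank)} {α β : MulAut ↥(D.group F)}
    (h1 : IsG hD F π α) (h2 : IsG hD F ρ β) : IsG hD F (π * ρ) (α * β) := by
  intro i t
  rw [MulAut.mul_apply, MulAut.mul_apply, (h2 i t).1, (h2 i t).2, (h1 _ t).1, (h1 _ t).2]
  exact ⟨rfl, rfl⟩

theorem IsG.unique {hD : InList D} {π : Equiv.Perm (Fin D.rank)} {α β : MulAut ↥(D.group F)}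
    (h1 : IsG hD F π α) (h2 : IsG hD F π β) : α = β := by
  apply equiv_ext hD
  · intro i hi t
    exact ((h1 ⟨i, hi⟩ t).1).trans ((h2 ⟨i, hi⟩ t).1).symm
  · intro i hi t
    exact ((h1 ⟨i, hi⟩ t).2).trans ((h2 ⟨i, hi⟩ t).2).symm

theorem IsG.pow {hD : InList D} {π : Equiv.Perm (Fin D.rank)} {α : MulAut ↥(D.group F)}
    (h1 : IsG hD F π α) (k : ℕ) : IsG hD F (π ^ k) (α ^ k) := by
  induction k with
  | zero => exact IsG.one hD
  | succ k ih => rw [pow_succ, pow_succ]; exact ih.mul h1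

theorem memD4 : InList chevD4 := by simp [InList]

/-- Tables of the graph symmetry [2, 1, 0, 3] of D4. -/
def tablesD4c : Tables where
  rho := [0, 1, 2, 6, 7, 10, 3, 4, 8, 9, 5, 11, 12, 18, 14, 15, 19, 20, 13, 16, 17, 21, 22, 23]
  rhoInv := [0, 1, 2, 6, 7, 10, 3, 4, 8, 9, 5, 11, 12, 18, 14, 15, 19, 20, 13, 16, 17, 21, 22, 23]
  eps := [1, 1, 1, -1, -1, 1, -1, -1, 1, 1, 1, 1, 1, 1, 1, 1, -1, -1, 1, -1, -1, 1, 1, 1]
  rho0 := [2, 1, 0, 3]
  rho0Inv := [2, 1, 0, 3]
  del := [1, 1, 1, 1]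

set_option maxRecDepth 100000 in
theorem checkD4c : tablesD4c.check chevD4 = true := by decide +kernel

/-- The graph symmetry [2, 1, 0, 3] of D4. -/
def symmD4c : Symm chevD4 := Tables.toSymm checkD4c

set_option maxRecDepth 100000 in
theorem specD4c : ∀ i : ℕ, i < Cfsg.Lie.chevD4.rank → ∃ r r' : Fin Cfsg.Lie.chevD4.nroots,
      r.val = Cfsg.Lie.chevD4.simple i ∧ r'.val = Cfsg.Lie.chevD4.neg (Cfsg.Lie.chevD4.simple i) ∧
      (symmD4c.σ r).val = Cfsg.Lie.chevD4.simple (List.getD [2, 1, 0, 3] i 0) ∧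
      (symmD4c.σ r').val = Cfsg.Lie.chevD4.neg (Cfsg.Lie.chevD4.simple (List.getD [2, 1, 0, 3] i 0)) ∧
      symmD4c.ε r = 1 ∧ symmD4c.ε r' = 1 := by
  have key : ∀ i : Fin 4, ∃ (h1 : Cfsg.Lie.chevD4.simple i < Cfsg.Lie.chevD4.nroots)
      (h2 : Cfsg.Lie.chevD4.neg (Cfsg.Lie.chevD4.simple i) < Cfsg.Lie.chevD4.nroots),
      (symmD4c.σ ⟨_, h1⟩).val = Cfsg.Lie.chevD4.simple (List.getD [2, 1, 0, 3] i.val 0) ∧
      (symmD4c.σ ⟨_, h2⟩).val = Cfsg.Lie.chevD4.neg (Cfsg.Lie.chevD4.simple (List.getD [2, 1, 0, 3] i.val 0)) ∧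
      symmD4c.ε ⟨_, h1⟩ = 1 ∧ symmD4c.ε ⟨_, h2⟩ = 1 := by
    decide +kernel
  intro i hi
  obtain ⟨h1, h2, h⟩ := key ⟨i, hi⟩
  exact ⟨⟨_, h1⟩, ⟨_, h2⟩, rfl, rfl, h⟩

theorem isG_of_symm (S : Symm chevD4) (l : List ℕ) (π : Equiv.Perm (Fin chevD4.rank))
    (hl : ∀ i : Fin chevD4.rank, l.getD i.val 0 = (π i).val)
    (h : ∀ i : ℕ, i < chevD4.rank → ∃ r r' : Fin chevD4.nroots,
      r.val = chevD4.simple i ∧ r'.val = chevD4.neg (chevD4.simple i) ∧
      (S.σ r).val = chevD4.simple (List.getD l i 0) ∧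
      (S.σ r').val = chevD4.neg (chevD4.simple (List.getD l i 0)) ∧
      S.ε r = 1 ∧ S.ε r' = 1) : IsG memD4 F π (S.aut F) := by
  intro i t
  obtain ⟨r, r', h1, h2, h3, h4, h5, h6⟩ := h i i.isLt
  rw [hl i] at h3 h4
  constructor
  · rw [eq_xS_iff, ← h3]
    have := S.aut_x F (xS memD4 (chevD4.simple i) t) r t (by rw [h1]; rfl)
    rw [h5, Int.cast_one, one_mul] at this
    exact this
  · rw [eq_xS_iff, ← h4]
    have := S.aut_x F (xS memD4 (chevD4.neg (chevD4.simple i)) t) r' t (by rw [h2]; rfl)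
    rw [h6, Int.cast_one, one_mul] at this
    exact this

/-- The symmetric group on three letters as the stabiliser of 1 in the symmetric group on four letters. -/
def ext4 : Equiv.Perm (Fin 3) →* Equiv.Perm (Fin 4) :=
  Equiv.Perm.extendDomainHom (finSuccAboveEquiv (1 : Fin 4))

/-- The symmetric group on three letters acting on the outer nodes of the diagram. -/
def extD4 : Equiv.Perm (Fin 3) →* Equiv.Perm (Fin chevD4.rank) := ext4

theorem extD4_swap : ∀ i : Fin chevD4.rank, [2, 1, 0, 3].getD i.val 0 = (extD4 (Equiv.swap 0 1) i).val := by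
  decide

theorem extD4_c3 : ∀ i : Fin chevD4.rank, [2, 1, 3, 0].getD i.val 0 = (extD4 OutAbs.c3 i).val := by
  decide

theorem exists_isG_ext (F : Type u) [Field F] (τ : Equiv.Perm (Fin 3)) :
    ∃ α : MulAut ↥(chevD4.group F), IsG memD4 F (extD4 τ) α := by
  have key : ∀ x : Equiv.Perm (Fin 3), ∃ k : Fin 3, ∃ b : Bool,
        x = OutAbs.c3 ^ k.val * (if b then 1 else Equiv.swap 0 1) := by decide
  have h1 := isG_of_symm (F := F) symmD4c _ _ extD4_swap specD4c
  have h2 := isG_of_symm (F := F) GraphSymm.symmD4a _ _ extD4_c3 S1081.specD4a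
  obtain ⟨k, b, rfl⟩ := key τ
  rw [map_mul, map_pow]
  cases b
  · exact ⟨_, (h2.pow _).mul h1⟩
  · rw [if_pos rfl, map_one]
    exact ⟨_, (h2.pow _).mul (IsG.one memD4)⟩

theorem exists_ext {π : Equiv.Perm (Fin chevD4.rank)} (hπ : chevD4.IsDiagramSymmetry π) :
    ∃ τ, π = extD4 τ := by
  have h := DiagSymm.imgs_D4 hπ
  have key : ∀ l ∈ ([[0, 1, 2, 3], [0, 1, 3, 2], [2, 1, 0, 3], [2, 1, 3, 0], [3, 1, 0, 2], [3, 1, 2, 0]] : List (List ℕ)),
      ∃ τ : Equiv.Perm (Fin 3), l = DiagSymm.imgs (extD4 τ) := by decide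
  obtain ⟨τ, hτ⟩ := key _ h
  exact ⟨τ, DiagSymm.eq_of_imgs hτ⟩

/-- Every symmetry of the diagram of type `D₄` gives a graph automorphism. -/
theorem exists_isG_D4 (F : Type u) [Field F] {π : Equiv.Perm (Fin chevD4.rank)}
    (hπ : chevD4.IsDiagramSymmetry π) : ∃ α : MulAut ↥(chevD4.group F), IsG memD4 F π α := by
  obtain ⟨τ, rfl⟩ := exists_ext hπ
  exact exists_isG_ext F τ

/-- The graph automorphism of type `D₄` attached to a permutation of three letters. -/
noncomputable def gammaFun (F : Type u) [Field F] (τ : Equiv.Perm (Fin 3)) : MulAut ↥(chevD4.group F) :=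
  Classical.choose (exists_isG_ext F τ)

theorem gammaFun_spec (F : Type u) [Field F] (τ : Equiv.Perm (Fin 3)) : IsG memD4 F (extD4 τ) (gammaFun F τ) :=
  Classical.choose_spec (exists_isG_ext F τ)

/-- The homomorphism from the symmetric group on three letters to the automorphisms. -/
noncomputable def gammaD4 (F : Type u) [Field F] : Equiv.Perm (Fin 3) →* MulAut ↥(chevD4.group F) where
  toFun := gammaFun F
  map_one' := by
    have h := gammaFun_spec F 1
    rw [map_one] at h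
    exact h.unique (IsG.one memD4)
  map_mul' τ ρ := by
    have h := gammaFun_spec F (τ * ρ)
    rw [map_mul] at h
    exact h.unique ((gammaFun_spec F τ).mul (gammaFun_spec F ρ))

theorem gammaD4_spec (F : Type u) [Field F] (τ : Equiv.Perm (Fin 3)) : IsG memD4 F (extD4 τ) (gammaD4 F τ) :=
  gammaFun_spec F τ

/-- In the types with one root length the exponents of a graph automorphism are 1. -/
theorem graphExp_eq_one_D4 (c i j : ℕ) (hj : j < chevD4.rank) : chevD4.graphExp c i j = 1 := by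
  have key : ∀ j < chevD4.rank, chevD4.isLong (chevD4.simple j) = false := by decide +kernel
  unfold ChevalleyDatum.graphExp
  rw [key j hj]
  rfl

/-- A graph automorphism of type `D₄` in the sense of `IsGraphAut` is in the image of `gammaD4`. -/
theorem exists_gamma_eq {α : MulAut ↥(chevD4.group F)} (h : chevD4.IsGraphAut α) : ∃ τ, α = gammaD4 F τ := by
  obtain ⟨π, hπ, h⟩ := h
  obtain ⟨τ, rfl⟩ := exists_ext hπ
  refine ⟨τ, ?_⟩
  have h1 := graph_apply memD4 (φ := α) (π := extD4 τ)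
    (e := fun i => chevD4.graphExp (ringChar F) i (extD4 τ i)) h
  have h2 : IsG memD4 F (extD4 τ) α := by
    intro i t
    have := h1 i t
    simp only [graphExp_eq_one_D4 _ _ _ (extD4 τ i).isLt, pow_one] at this
    exact this
  exact h2.unique (gammaD4_spec F τ)

end Cfsg.Agent.H79.GraphD4
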