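import Cfsg.Prelude.Def_KGroupFacts
import Cfsg.Agent.H79.FieldAuts
import Cfsg.Agent.H79.GraphD4
import Cfsg.Agent.H79.OutAbs
import Cfsg.Agent.H70.ChevDiag
import Cfsg.Agent.H79.CharDiag
set_option linter.all false

-- part: H79/OutChev
section
/-!
# The outer automorphism group of a Chevalley group, from the factorisation of automorphisms

`IsD hD c α` : the automorphism `α` sends `x_{p_i}(t)` to `x_{p_i}(c_i t)` and `x_{-p_i}(t)` to `x_{-p_i}(c_i⁻¹ t)`.
`DiagFacts` : the diagonal automorphisms are exactly these, one for every tuple `c`.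
-/

set_option autoImplicit false

namespace Cfsg.Agent.H79.OutChev

open Cfsg.Lie
open Cfsg.Agent.ChevalleyStructure
open Cfsg.Agent.ChevalleyStructure.Elts
open Cfsg.Agent.H79.SimpleGen
open Cfsg.Agent.H79.FieldAuts

universe u

variable {F : Type u} [Field F] {D : ChevalleyDatum}

/-- `α` sends `x_{p_i}(t)` to `x_{p_i}(c_i t)` and `x_{-p_i}(t)` to `x_{-p_i}(c_i⁻¹ t)`. -/
def IsD (hD : InList D) (c : Fin D.rank → Fˣ) (α : MulAut ↥(D.group F)) : Prop :=
  ∀ (i : Fin D.rank) (t : F), α (xS hD (D.simple i) t) = xS hD (D.simple i) ((c i : F) * t) ∧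
    α (xS hD (D.neg (D.simple i)) t) = xS hD (D.neg (D.simple i)) (((c i)⁻¹ : Fˣ) * t)

/-- The diagonal automorphisms are exactly the automorphisms scaling the fundamental root elements. -/
structure DiagFacts (hD : InList D) (F : Type u) [Field F] : Prop where
  exists_c : ∀ α : MulAut ↥(D.group F), D.IsDiagonalAut α → ∃ c, IsD hD c α
  isDiag : ∀ (c : Fin D.rank → Fˣ) (α : MulAut ↥(D.group F)), IsD hD c α → D.IsDiagonalAut α
  exists_α : ∀ c : Fin D.rank → Fˣ, ∃ α : MulAut ↥(D.group F), IsD hD c α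

theorem IsD.unique {hD : InList D} {c : Fin D.rank → Fˣ} {α β : MulAut ↥(D.group F)}
    (h1 : IsD hD c α) (h2 : IsD hD c β) : α = β := by
  apply equiv_ext hD
  · intro i hi t
    exact ((h1 ⟨i, hi⟩ t).1).trans ((h2 ⟨i, hi⟩ t).1).symm
  · intro i hi t
    exact ((h1 ⟨i, hi⟩ t).2).trans ((h2 ⟨i, hi⟩ t).2).symm

theorem IsD.mul {hD : InList D} {c d : Fin D.rank → Fˣ} {α β : MulAut ↥(D.group F)}
    (h1 : IsD hD c α) (h2 : IsD hD d β) : IsD hD (c * d) (α * β) := by
  intro i t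
  rw [MulAut.mul_apply, MulAut.mul_apply, (h2 i t).1, (h2 i t).2, (h1 i _).1, (h1 i _).2]
  constructor
  · rw [Pi.mul_apply, Units.val_mul, mul_assoc]
  · rw [Pi.mul_apply, mul_inv, Units.val_mul, mul_assoc]

theorem IsD.one (hD : InList D) : IsD hD (1 : Fin D.rank → Fˣ) 1 := by
  intro i t
  simp

theorem IsD.comm {hD : InList D} {c d : Fin D.rank → Fˣ} {α β : MulAut ↥(D.group F)}
    (h1 : IsD hD c α) (h2 : IsD hD d β) : α * β = β * α := by
  have h3 := h1.mul h2
  rw [mul_comm] at h3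
  exact h3.unique (h2.mul h1)

theorem IsD.inv {hD : InList D} {c : Fin D.rank → Fˣ} {α : MulAut ↥(D.group F)}
    (h1 : IsD hD c α) : IsD hD c⁻¹ α⁻¹ := by
  intro i t
  have h2 := (h1 i (((c i)⁻¹ : Fˣ) * t)).1
  have h3 := (h1 i ((c i : Fˣ) * t)).2
  rw [← mul_assoc, Units.mul_inv, one_mul] at h2
  rw [← mul_assoc, Units.inv_mul, one_mul] at h3
  constructor
  · rw [← h2, MulAut.inv_apply_self, Pi.inv_apply]
  · rw [← h3, MulAut.inv_apply_self, Pi.inv_apply, inv_inv]

/-- The diagonal automorphisms form a subgroup. -/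
def diagSub (hD : InList D) (F : Type u) [Field F] : Subgroup (MulAut ↥(D.group F)) where
  carrier := {α | ∃ c, IsD hD c α}
  mul_mem' := by
    rintro α β ⟨c, hc⟩ ⟨d, hd⟩
    exact ⟨_, hc.mul hd⟩
  one_mem' := ⟨_, IsD.one hD⟩
  inv_mem' := by
    rintro α ⟨c, hc⟩
    exact ⟨_, hc.inv⟩

theorem closure_isDiagonalAut {hD : InList D} (hE : DiagFacts hD F) :
    Subgroup.closure {φ : MulAut ↥(D.group F) | D.IsDiagonalAut φ} = diagSub hD F := by
  apply le_antisymm
  · rw [Subgroup.closure_le]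
    intro φ hφ
    exact hE.exists_c φ hφ
  · rintro φ ⟨c, hc⟩
    exact Subgroup.subset_closure (hE.isDiag c φ hc)

/-- Conjugation of a diagonal automorphism by a field automorphism. -/
theorem IsD.conj_field {hD : InList D} (hE : DiagFacts hD F) (σ : RingAut F) {c : Fin D.rank → Fˣ}
    {α : MulAut ↥(D.group F)} (h : IsD hD c α) :
    ∃ c', IsD hD c' (fieldHom hD F σ * α * (fieldHom hD F σ)⁻¹) := by
  obtain ⟨β, hβ⟩ := hE.exists_α (fun i => Units.map (σ : F →* F) (c i))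
  refine ⟨fun i => Units.map (σ : F →* F) (c i), ?_⟩
  · have : fieldHom hD F σ * α * (fieldHom hD F σ)⁻¹ = β := by
      rw [mul_inv_eq_iff_eq_mul]
      apply equiv_ext hD
      · intro i hi t
        have h1 := (h ⟨i, hi⟩ t).1
        have h2 := (hβ ⟨i, hi⟩ (σ t)).1
        simp only at h1 h2
        rw [MulAut.mul_apply, MulAut.mul_apply, h1, fieldHom_xS hD σ (simple_lt hD hi),
          fieldHom_xS hD σ (simple_lt hD hi), h2]
        congr 1
        simp
      · intro i hi t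
        have h1 := (h ⟨i, hi⟩ t).2
        have h2 := (hβ ⟨i, hi⟩ (σ t)).2
        simp only at h1 h2
        rw [MulAut.mul_apply, MulAut.mul_apply, h1, fieldHom_xS hD σ (neg_simple_lt hD hi),
          fieldHom_xS hD σ (neg_simple_lt hD hi), h2]
        congr 1
        simp
    rw [this]
    exact hβ

/-- The action of a graph automorphism on the fundamental root elements. -/
def IsGr (hD : InList D) (π : Equiv.Perm (Fin D.rank)) (e : Fin D.rank → ℕ) (α : MulAut ↥(D.group F)) : Prop :=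
  ∀ (i : Fin D.rank) (t : F), α (xS hD (D.simple i) t) = xS hD (D.simple (π i)) (t ^ e i) ∧
    α (xS hD (D.neg (D.simple i)) t) = xS hD (D.neg (D.simple (π i))) (t ^ e i)

/-- Conjugation of a diagonal automorphism by a graph automorphism. -/
theorem IsD.conj_graph {hD : InList D} (hE : DiagFacts hD F) {π : Equiv.Perm (Fin D.rank)} {e : Fin D.rank → ℕ}
    {g : MulAut ↥(D.group F)} (hg : IsGr hD π e g) {c : Fin D.rank → Fˣ}
    {α : MulAut ↥(D.group F)} (h : IsD hD c α) :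
    ∃ c', IsD hD c' (g * α * g⁻¹) := by
  obtain ⟨β, hβ⟩ := hE.exists_α (fun j => (c (π.symm j)) ^ e (π.symm j))
  refine ⟨fun j => (c (π.symm j)) ^ e (π.symm j), ?_⟩
  · have : g * α * g⁻¹ = β := by
      rw [mul_inv_eq_iff_eq_mul]
      apply equiv_ext hD
      · intro i hi t
        have h1 := (h ⟨i, hi⟩ t).1
        have h2 := (hβ (π ⟨i, hi⟩) (t ^ e ⟨i, hi⟩)).1
        have h3 := (hg ⟨i, hi⟩ t).1
        have h4 := (hg ⟨i, hi⟩ (c ⟨i, hi⟩ * t)).1
        simp only [Equiv.symm_apply_apply] at h1 h2 h3 h4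
        rw [MulAut.mul_apply, MulAut.mul_apply, h1, h3, h4, h2]
        congr 1
        rw [mul_pow, Units.val_pow_eq_pow_val]
      · intro i hi t
        have h1 := (h ⟨i, hi⟩ t).2
        have h2 := (hβ (π ⟨i, hi⟩) (t ^ e ⟨i, hi⟩)).2
        have h3 := (hg ⟨i, hi⟩ t).2
        have h4 := (hg ⟨i, hi⟩ (((c ⟨i, hi⟩)⁻¹ : Fˣ) * t)).2
        simp only [Equiv.symm_apply_apply] at h1 h2 h3 h4
        rw [MulAut.mul_apply, MulAut.mul_apply, h1, h3, h4, h2]
        congr 1
        rw [mul_pow, ← inv_pow, Units.val_pow_eq_pow_val]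
    rw [this]
    exact hβ

theorem isGraphAut_isGr (hD : InList D) {g : MulAut ↥(D.group F)} (hg : D.IsGraphAut g) :
    ∃ π : Equiv.Perm (Fin D.rank), D.IsDiagramSymmetry π ∧ IsGr hD π (fun i => D.graphExp (ringChar F) i (π i)) g := by
  obtain ⟨π, hπ, h⟩ := hg
  exact ⟨π, hπ, fun i t => graph_apply hD (φ := g) (π := π) (e := fun i => D.graphExp (ringChar F) i (π i)) h i t⟩

theorem IsGr.unique {hD : InList D} {π : Equiv.Perm (Fin D.rank)} {e : Fin D.rank → ℕ} {α β : MulAut ↥(D.group F)}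
    (h1 : IsGr hD π e α) (h2 : IsGr hD π e β) : α = β := by
  apply equiv_ext hD
  · intro i hi t
    exact ((h1 ⟨i, hi⟩ t).1).trans ((h2 ⟨i, hi⟩ t).1).symm
  · intro i hi t
    exact ((h1 ⟨i, hi⟩ t).2).trans ((h2 ⟨i, hi⟩ t).2).symm

/-- A graph automorphism commutes with the field automorphisms. -/
theorem IsGr.comm_field {hD : InList D} {π : Equiv.Perm (Fin D.rank)} {e : Fin D.rank → ℕ}
    {g : MulAut ↥(D.group F)} (hg : IsGr hD π e g) (σ : RingAut F) :
    g * fieldHom hD F σ = fieldHom hD F σ * g := by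
  apply equiv_ext hD
  · intro i hi t
    have h1 := (hg ⟨i, hi⟩ t).1
    have h2 := (hg ⟨i, hi⟩ (σ t)).1
    simp only at h1 h2
    rw [MulAut.mul_apply, MulAut.mul_apply, h1, fieldHom_xS hD σ (simple_lt hD hi),
      fieldHom_xS hD σ (simple_lt hD (π ⟨i, hi⟩).isLt), h2, map_pow]
  · intro i hi t
    have h1 := (hg ⟨i, hi⟩ t).2
    have h2 := (hg ⟨i, hi⟩ (σ t)).2
    simp only at h1 h2
    rw [MulAut.mul_apply, MulAut.mul_apply, h1, fieldHom_xS hD σ (neg_simple_lt hD hi),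
      fieldHom_xS hD σ (neg_simple_lt hD (π ⟨i, hi⟩).isLt), h2, map_pow]

/-- A graph automorphism with trivial permutation is the identity. -/
theorem isGr_one {hD : InList D} {g : MulAut ↥(D.group F)}
    (hg : IsGr hD 1 (fun i => D.graphExp (ringChar F) i ((1 : Equiv.Perm (Fin D.rank)) i)) g) : g = 1 := by
  apply equiv_ext hD
  · intro i hi t
    have h1 := (hg ⟨i, hi⟩ t).1
    simp only [Equiv.Perm.one_apply] at h1
    rw [h1]
    have : D.graphExp (ringChar F) i i = 1 := by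
      unfold ChevalleyDatum.graphExp
      cases D.isLong (D.simple i) <;> rfl
    rw [this, pow_one]
    rfl
  · intro i hi t
    have h1 := (hg ⟨i, hi⟩ t).2
    simp only [Equiv.Perm.one_apply] at h1
    rw [h1]
    have : D.graphExp (ringChar F) i i = 1 := by
      unfold ChevalleyDatum.graphExp
      cases D.isLong (D.simple i) <;> rfl
    rw [this, pow_one]
    rfl

/-- The hypotheses of `OutAbs.Data` from the factorisation of automorphisms. -/
theorem data {hD : InList D} [Finite F] (hE : DiagFacts hD F)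
    (hS : ∀ θ : MulAut ↥(D.group F), ∃ (x : ↥(D.group F)) (d g f : ↥(D.group F) ≃* ↥(D.group F)),
      D.IsDiagonalAut d ∧ D.IsGraphAut g ∧ D.IsFieldAut f ∧ ∀ y : ↥(D.group F), θ y = x * d (g (f y)) * x⁻¹) :
    OutAbs.Data (Cfsg.Inn ↥(D.group F)) (Subgroup.closure {φ : MulAut ↥(D.group F) | D.IsDiagonalAut φ})
      (Subgroup.closure {φ : MulAut ↥(D.group F) | D.IsFieldAut φ}) {g : MulAut ↥(D.group F) | D.IsGraphAut g} := by
  refine ⟨?_, ?_, isCyclic_closure hD F, ?_, ?_, ?_⟩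
  · intro θ
    obtain ⟨x, d, g, f, hd, hg, hf, h⟩ := hS θ
    refine ⟨MulAut.conj x, ⟨x, rfl⟩, d, Subgroup.subset_closure hd, g, hg, f, Subgroup.subset_closure hf, ?_⟩
    apply MulEquiv.ext
    intro y
    rw [h]
    rfl
  · rw [closure_isDiagonalAut hE]
    rintro d ⟨c, hc⟩ e ⟨c', hc'⟩
    exact hc.comm hc'
  · rw [closure_isDiagonalAut hE, closure_isFieldAut hD]
    rintro _ ⟨σ, rfl⟩ d ⟨c, hc⟩
    exact hc.conj_field hE σ
  · rw [closure_isDiagonalAut hE]
    rintro g hg d ⟨c, hc⟩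
    obtain ⟨π, -, hπ⟩ := isGraphAut_isGr hD hg
    exact hc.conj_graph hE hπ
  · rw [closure_isFieldAut hD]
    rintro g hg _ ⟨σ, rfl⟩
    obtain ⟨π, -, hπ⟩ := isGraphAut_isGr hD hg
    exact hπ.comm_field σ

theorem out_structure {hD : InList D} [Finite F] (hE : DiagFacts hD F)
    (hS : ∀ θ : MulAut ↥(D.group F), ∃ (x : ↥(D.group F)) (d g f : ↥(D.group F) ≃* ↥(D.group F)),
      D.IsDiagonalAut d ∧ D.IsGraphAut g ∧ D.IsFieldAut f ∧ ∀ y : ↥(D.group F), θ y = x * d (g (f y)) * x⁻¹)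
    (Dbar Fbar : Subgroup (Cfsg.Out ↥(D.group F)))
    (hDbar : Dbar = (Subgroup.closure {φ : MulAut ↥(D.group F) | D.IsDiagonalAut φ}).map (QuotientGroup.mk' (Cfsg.Inn ↥(D.group F))))
    (hFbar : Fbar = (Subgroup.closure {φ : MulAut ↥(D.group F) | D.IsFieldAut φ}).map (QuotientGroup.mk' (Cfsg.Inn ↥(D.group F)))) :
    Dbar.Normal ∧ IsMulCommutative ↥Dbar ∧ IsCyclic ↥Fbar ∧ (Dbar ⊔ Fbar).Normal ∧
      ((Dbar ⊔ Fbar).index = 1 ∨ (Dbar ⊔ Fbar).index = 2 ∨
        ((Dbar ⊔ Fbar).index = 6 ∧ ¬ commutator (Cfsg.Out ↥(D.group F)) ≤ Dbar ⊔ Fbar)) := by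
  subst hDbar
  subst hFbar
  have hdata := data hE hS
  refine ⟨OutAbs.Dbar_normal hdata, OutAbs.Dbar_comm hdata, OutAbs.Fbar_cyclic hdata, OutAbs.sup_normal hdata, ?_⟩
  by_cases h4 : D = chevD4
  · subst h4
    exact OutAbs.index_of_three hdata (GraphD4.gammaD4 F) (fun g hg => GraphD4.exists_gamma_eq hg)
  · have hD' : D ∈ [chevG2, chevB2, chevF4, chevE6, chevE7, chevE8] := by
      have := hD
      simp only [List.mem_cons, List.not_mem_nil, or_false] at this ⊢
      tauto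
    have key : ∃ g₀ : MulAut ↥(D.group F), ∀ g ∈ {g : MulAut ↥(D.group F) | D.IsGraphAut g}, g = 1 ∨ g = g₀ := by
      by_cases hex : ∃ g₀ : MulAut ↥(D.group F), D.IsGraphAut g₀ ∧ g₀ ≠ 1
      · obtain ⟨g₀, hg₀, hne⟩ := hex
        refine ⟨g₀, fun g hg => ?_⟩
        by_cases hg1 : g = 1
        · exact Or.inl hg1
        · right
          obtain ⟨π, hπs, hπ⟩ := isGraphAut_isGr hD hg
          obtain ⟨ρ, hρs, hρ⟩ := isGraphAut_isGr hD hg₀
          have h1 : π ≠ 1 := by
            rintro rfl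
            exact hg1 (isGr_one hπ)
          have h2 : ρ ≠ 1 := by
            rintro rfl
            exact hne (isGr_one hρ)
          have h3 : π = ρ := DiagSymm.eq_of_ne_one hD' hπs hρs h1 h2
          subst h3
          exact hπ.unique hρ
      · refine ⟨1, fun g hg => ?_⟩
        by_contra hne
        push Not at hne
        exact hex ⟨g, hg, hne.1⟩
    obtain ⟨g₀, hg₀⟩ := key
    rcases OutAbs.index_of_two hdata g₀ hg₀ with h | h
    · exact Or.inl h
    · exact Or.inr (Or.inl h)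

end Cfsg.Agent.H79.OutChev
end

-- part: H79/DiagAuts
section
/-!
# The diagonal automorphisms of the Chevalley groups

`diagFacts` : the diagonal automorphisms are exactly the automorphisms `x_{±p_i}(t) ↦ x_{±p_i}(c_i^{±1} t)`, one for each
tuple `c`.
-/

set_option autoImplicit false

namespace Cfsg.Agent.H79.DiagAuts

open Cfsg.Lie
open Cfsg.Agent.ChevalleyStructure
open Cfsg.Agent.ChevalleyStructure.Elts
open Cfsg.Agent.H79.SimpleGen
open Cfsg.Agent.H79.OutChev
open Cfsg.Agent.H79.CharDiag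

universe u

variable {F : Type u} [Field F] {D : ChevalleyDatum}

theorem isD_diagAut (hD : InList D) {χ : ℕ → Fˣ} (hχ : D.IsRootCharacter χ) :
    IsD hD (fun i => χ (D.simple i)) (diagAut (F := F) hD hχ) := by
  intro i t
  refine ⟨diagAut_xS hD hχ (simple_lt hD i.isLt) t, ?_⟩
  rw [diagAut_xS hD hχ (neg_simple_lt hD i.isLt), hχ.1 _ (simple_lt hD i.isLt)]

theorem exists_char (hD : InList D) (c : Fin D.rank → Fˣ) :
    ∃ χ : ℕ → Fˣ, D.IsRootCharacter χ ∧ ∀ i : Fin D.rank, χ (D.simple i) = c i := by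
  obtain ⟨χ, h1, h2, -⟩ := H70.ChevDiag.exists_diagAut hD c
  exact ⟨χ, h1.isRootCharacter, h2⟩

theorem exists_isD (hD : InList D) (c : Fin D.rank → Fˣ) :
    ∃ α : MulAut ↥(D.group F), IsD hD c α ∧ D.IsDiagonalAut α := by
  obtain ⟨χ, h1, h2⟩ := exists_char hD c
  refine ⟨diagAut hD h1, ?_, diagAut_isDiagonal hD h1⟩
  have h3 := isD_diagAut (F := F) hD h1
  have h4 : (fun i : Fin D.rank => χ (D.simple i)) = c := funext h2
  rwa [h4] at h3

theorem diagFacts (hD : InList D) (F : Type u) [Field F] : DiagFacts hD F where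
  exists_c α h := by
    obtain ⟨χ, hχ, rfl⟩ := eq_diagAut hD h
    exact ⟨_, isD_diagAut hD hχ⟩
  isDiag c α h := by
    obtain ⟨β, h1, h2⟩ := exists_isD hD c
    rw [h.unique h1]
    exact h2
  exists_α c := by
    obtain ⟨β, h1, -⟩ := exists_isD hD c
    exact ⟨β, h1⟩

end Cfsg.Agent.H79.DiagAuts
end
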