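import Cfsg.Agent.H79.DiagSymm
set_option linter.all false

-- part: H79/EdgeSymm
section
/-!
# Permutations of the nodes preserving the edges of the Dynkin diagram

`edge_G2` etc. : a permutation `π` of the nodes with `A_{πi,πj} = 0 ↔ A_{ij} = 0` is in an explicit list; hence it is a
symmetry of the diagram (`isDiagramSymmetry_of_edge`).
-/

set_option autoImplicit false

namespace Cfsg.Agent.H79.EdgeSymm

open Cfsg.Lie
open Cfsg.Agent.H79.DiagSymm

variable {D : ChevalleyDatum}

/-- `π` preserves the edges of the diagram. -/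
def EdgePres (D : ChevalleyDatum) (π : Equiv.Perm (Fin D.rank)) : Prop :=
  ∀ i j : Fin D.rank, i ≠ j → (D.cartan (π i) (D.simple (π j)) = 0 ↔ D.cartan i (D.simple j) = 0)

/-- The packed table `T` gives the edges of `D`: entry 1 for an edge, 0 otherwise. -/
def IsEdgeTab (D : ChevalleyDatum) (T : ℕ) : Prop :=
  ∀ i < D.rank, ∀ j < D.rank, i ≠ j → bt T i j = if D.cartan i (D.simple j) = 0 then 0 else 1

instance decIsEdgeTab (D : ChevalleyDatum) (T : ℕ) : Decidable (IsEdgeTab D T) := by unfold IsEdgeTab; infer_instance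

theorem pre_mem_edge {T : ℕ} {π : Equiv.Perm (Fin D.rank)}
    (hπ : ∀ i j : Fin D.rank, i ≠ j → bt T (π i) (π j) = bt T i j) :
    ∀ k ≤ D.rank, (List.range k).map (val π) ∈ search D.rank T k := by
  intro k
  induction k with
  | zero => intro _; simp [search]
  | succ k ih =>
    intro hk
    have hk' : k < D.rank := hk
    have h1 := ih (Nat.le_of_lt hk')
    unfold search
    rw [List.mem_flatMap]
    refine ⟨_, h1, ?_⟩
    unfold cands
    rw [List.mem_map]
    refine ⟨val π k, ?_, ?_⟩
    · rw [List.mem_filter]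
      refine ⟨?_, ?_⟩
      · rw [List.mem_range]
        have := val_fin π ⟨k, hk'⟩
        simp only at this
        rw [this]
        exact (π ⟨k, hk'⟩).isLt
      · rw [Bool.and_eq_true]
        refine ⟨?_, ?_⟩
        · rw [Bool.not_eq_true', ← Bool.not_eq_true]
          intro h
          rw [List.contains_iff_mem, List.mem_map] at h
          obtain ⟨j, hj, hjk⟩ := h
          rw [List.mem_range] at hj
          have h2 := val_fin π ⟨k, hk'⟩
          have h3 := val_fin π ⟨j, by omega⟩
          simp only at h2 h3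
          rw [h2, h3] at hjk
          have := congrArg Fin.val (π.injective (Fin.ext hjk))
          simp only at this
          omega
        · rw [List.all_eq_true]
          intro j hj
          rw [List.length_map, List.length_range, List.mem_range] at hj
          rw [Nat.beq_eq, List.length_map, List.length_range, List.getD_eq_getElem?_getD, List.getElem?_map,
            List.getElem?_range hj]
          have h2 := val_fin π ⟨k, hk'⟩
          have h3 := val_fin π ⟨j, by omega⟩
          simp only at h2 h3
          simp only [Option.map_some, Option.getD_some, h2, h3]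
          exact hπ ⟨j, by omega⟩ ⟨k, hk'⟩ (fun h => by
            have := congrArg Fin.val h
            simp only at this
            omega)
    · rw [List.range_succ, List.map_append]
      rfl

theorem edge_mem {T : ℕ} (hT : IsEdgeTab D T) {π : Equiv.Perm (Fin D.rank)} (hπ : EdgePres D π) :
    imgs π ∈ search D.rank T D.rank := by
  refine pre_mem_edge (fun i j hij => ?_) _ le_rfl
  have h1 : ((π i : Fin D.rank) : ℕ) ≠ π j := fun h => hij (π.injective (Fin.ext h))
  have h2 : (i : ℕ) ≠ j := fun h => hij (Fin.ext h)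
  rw [hT _ (π i).isLt _ (π j).isLt h1, hT _ i.isLt _ j.isLt h2]
  by_cases h : D.cartan i (D.simple j) = 0
  · rw [if_pos h, if_pos ((hπ i j hij).2 h)]
  · rw [if_neg h, if_neg (fun h' => h ((hπ i j hij).1 h'))]

/-- The list `l` preserves the bonds. -/
def chkBonds (D : ChevalleyDatum) (T : ℕ) (l : List ℕ) : Bool :=
  (List.range D.rank).all fun i => (List.range D.rank).all fun j =>
    Nat.beq (bt T (l.getD i 0) (l.getD j 0)) (bt T i j)

theorem isDiagramSymmetry_of_chk {T : ℕ} (hT : IsTab D T) {π : Equiv.Perm (Fin D.rank)} {l : List ℕ}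
    (hl : imgs π = l) (hc : chkBonds D T l = true) : D.IsDiagramSymmetry π := by
  intro i j _
  unfold chkBonds at hc
  rw [List.all_eq_true] at hc
  have h1 := hc i (List.mem_range.2 i.isLt)
  rw [List.all_eq_true] at h1
  have h2 := h1 j (List.mem_range.2 j.isLt)
  rw [Nat.beq_eq, ← hl, imgs_getD, imgs_getD] at h2
  rw [hT _ (π i).isLt _ (π j).isLt, hT _ i.isLt _ j.isLt, h2]

theorem isDiagramSymmetry_of_list {T : ℕ} (hT : IsTab D T) {π : Equiv.Perm (Fin D.rank)} {L : List (List ℕ)}
    (hl : imgs π ∈ L) (hc : ∀ l ∈ L, chkBonds D T l = true) : D.IsDiagramSymmetry π :=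
  isDiagramSymmetry_of_chk hT rfl (hc _ hl)

/-- packed edge table of type G2 -/
def edgG2 : ℕ := 0x100000010

theorem isEdgeTab_G2 : IsEdgeTab chevG2 edgG2 := by decide +kernel

theorem searchEdge_G2 : search chevG2.rank edgG2 chevG2.rank = [[0, 1], [1, 0]] := by decide +kernel

/-- The permutations of the nodes preserving the edges, type G2. -/
theorem edge_G2 {π : Equiv.Perm (Fin chevG2.rank)} (hπ : EdgePres chevG2 π) :
    imgs π ∈ ([[0, 1], [1, 0]] : List (List ℕ)) := by
  have h := edge_mem isEdgeTab_G2 hπ
  rwa [searchEdge_G2] at h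

theorem symm_G2 {π : Equiv.Perm (Fin chevG2.rank)} (hπ : EdgePres chevG2 π) : chevG2.IsDiagramSymmetry π :=
  isDiagramSymmetry_of_list isTab_G2 (edge_G2 hπ) (by decide +kernel)

/-- packed edge table of type B2 -/
def edgB2 : ℕ := 0x100000010

theorem isEdgeTab_B2 : IsEdgeTab chevB2 edgB2 := by decide +kernel

theorem searchEdge_B2 : search chevB2.rank edgB2 chevB2.rank = [[0, 1], [1, 0]] := by decide +kernel

/-- The permutations of the nodes preserving the edges, type B2. -/
theorem edge_B2 {π : Equiv.Perm (Fin chevB2.rank)} (hπ : EdgePres chevB2 π) :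
    imgs π ∈ ([[0, 1], [1, 0]] : List (List ℕ)) := by
  have h := edge_mem isEdgeTab_B2 hπ
  rwa [searchEdge_B2] at h

theorem symm_B2 {π : Equiv.Perm (Fin chevB2.rank)} (hπ : EdgePres chevB2 π) : chevB2.IsDiagramSymmetry π :=
  isDiagramSymmetry_of_list isTab_B2 (edge_B2 hπ) (by decide +kernel)

/-- packed edge table of type D4 -/
def edgD4 : ℕ := 0x10000000100000110100000010

theorem isEdgeTab_D4 : IsEdgeTab chevD4 edgD4 := by decide +kernel

theorem searchEdge_D4 : search chevD4.rank edgD4 chevD4.rank = [[0, 1, 2, 3], [0, 1, 3, 2], [2, 1, 0, 3], [2, 1, 3, 0], [3, 1, 0, 2], [3, 1, 2, 0]] := by decide +kernel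

/-- The permutations of the nodes preserving the edges, type D4. -/
theorem edge_D4 {π : Equiv.Perm (Fin chevD4.rank)} (hπ : EdgePres chevD4 π) :
    imgs π ∈ ([[0, 1, 2, 3], [0, 1, 3, 2], [2, 1, 0, 3], [2, 1, 3, 0], [3, 1, 0, 2], [3, 1, 2, 0]] : List (List ℕ)) := by
  have h := edge_mem isEdgeTab_D4 hπ
  rwa [searchEdge_D4] at h

theorem symm_D4 {π : Equiv.Perm (Fin chevD4.rank)} (hπ : EdgePres chevD4 π) : chevD4.IsDiagramSymmetry π :=
  isDiagramSymmetry_of_list isTab_D4 (edge_D4 hπ) (by decide +kernel)

/-- packed edge table of type F4 -/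
def edgF4 : ℕ := 0x100000010100000010100000010

theorem isEdgeTab_F4 : IsEdgeTab chevF4 edgF4 := by decide +kernel

theorem searchEdge_F4 : search chevF4.rank edgF4 chevF4.rank = [[0, 1, 2, 3], [3, 2, 1, 0]] := by decide +kernel

/-- The permutations of the nodes preserving the edges, type F4. -/
theorem edge_F4 {π : Equiv.Perm (Fin chevF4.rank)} (hπ : EdgePres chevF4 π) :
    imgs π ∈ ([[0, 1, 2, 3], [3, 2, 1, 0]] : List (List ℕ)) := by
  have h := edge_mem isEdgeTab_F4 hπ
  rwa [searchEdge_F4] at h

theorem symm_F4 {π : Equiv.Perm (Fin chevF4.rank)} (hπ : EdgePres chevF4 π) : chevF4.IsDiagramSymmetry π :=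
  isDiagramSymmetry_of_list isTab_F4 (edge_F4 hπ) (by decide +kernel)

/-- packed edge table of type E6 -/
def edgE6 : ℕ := 0x100000010100000010110000010010000100000000100

theorem isEdgeTab_E6 : IsEdgeTab chevE6 edgE6 := by decide +kernel

theorem searchEdge_E6 : search chevE6.rank edgE6 chevE6.rank = [[0, 1, 2, 3, 4, 5], [5, 1, 4, 3, 2, 0]] := by decide +kernel

/-- The permutations of the nodes preserving the edges, type E6. -/
theorem edge_E6 {π : Equiv.Perm (Fin chevE6.rank)} (hπ : EdgePres chevE6 π) :
    imgs π ∈ ([[0, 1, 2, 3, 4, 5], [5, 1, 4, 3, 2, 0]] : List (List ℕ)) := by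
  have h := edge_mem isEdgeTab_E6 hπ
  rwa [searchEdge_E6] at h

theorem symm_E6 {π : Equiv.Perm (Fin chevE6.rank)} (hπ : EdgePres chevE6 π) : chevE6.IsDiagramSymmetry π :=
  isDiagramSymmetry_of_list isTab_E6 (edge_E6 hπ) (by decide +kernel)

/-- packed edge table of type E7 -/
def edgE7 : ℕ := 0x100000010100000010100000010110000010010000100000000100

theorem isEdgeTab_E7 : IsEdgeTab chevE7 edgE7 := by decide +kernel

theorem searchEdge_E7 : search chevE7.rank edgE7 chevE7.rank = [[0, 1, 2, 3, 4, 5, 6]] := by decide +kernel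

/-- The permutations of the nodes preserving the edges, type E7. -/
theorem edge_E7 {π : Equiv.Perm (Fin chevE7.rank)} (hπ : EdgePres chevE7 π) :
    imgs π ∈ ([[0, 1, 2, 3, 4, 5, 6]] : List (List ℕ)) := by
  have h := edge_mem isEdgeTab_E7 hπ
  rwa [searchEdge_E7] at h

theorem symm_E7 {π : Equiv.Perm (Fin chevE7.rank)} (hπ : EdgePres chevE7 π) : chevE7.IsDiagramSymmetry π :=
  isDiagramSymmetry_of_list isTab_E7 (edge_E7 hπ) (by decide +kernel)

/-- packed edge table of type E8 -/
def edgE8 : ℕ := 0x100000010100000010100000010100000010110000010010000100000000100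

theorem isEdgeTab_E8 : IsEdgeTab chevE8 edgE8 := by decide +kernel

theorem searchEdge_E8 : search chevE8.rank edgE8 chevE8.rank = [[0, 1, 2, 3, 4, 5, 6, 7]] := by decide +kernel

/-- The permutations of the nodes preserving the edges, type E8. -/
theorem edge_E8 {π : Equiv.Perm (Fin chevE8.rank)} (hπ : EdgePres chevE8 π) :
    imgs π ∈ ([[0, 1, 2, 3, 4, 5, 6, 7]] : List (List ℕ)) := by
  have h := edge_mem isEdgeTab_E8 hπ
  rwa [searchEdge_E8] at h

theorem symm_E8 {π : Equiv.Perm (Fin chevE8.rank)} (hπ : EdgePres chevE8 π) : chevE8.IsDiagramSymmetry π :=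
  isDiagramSymmetry_of_list isTab_E8 (edge_E8 hπ) (by decide +kernel)

/-- A permutation of the nodes preserving the edges is a symmetry of the diagram. -/
theorem isDiagramSymmetry_of_edge (hD : D ∈ [chevG2, chevB2, chevD4, chevF4, chevE6, chevE7, chevE8])
    {π : Equiv.Perm (Fin D.rank)} (hπ : EdgePres D π) : D.IsDiagramSymmetry π := by
  simp only [List.mem_cons, List.not_mem_nil, or_false] at hD
  rcases hD with rfl | rfl | rfl | rfl | rfl | rfl | rfl
  · exact symm_G2 hπ
  · exact symm_B2 hπ
  · exact symm_D4 hπ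
  · exact symm_F4 hπ
  · exact symm_E6 hπ
  · exact symm_E7 hπ
  · exact symm_E8 hπ

end Cfsg.Agent.H79.EdgeSymm
end

-- part: H79/FieldParam
section
/-!
# The field automorphisms attached to an automorphism permuting the fundamental root subgroups

`Rel D π σ` : the relation `σ_j(a^{A_ij}) = σ_i(a)^{A_{πi,πj}}`. For a permutation `π` preserving the edges of the
diagram there is one automorphism `τ` of the field with `σ_i(t) = τ(t)^{e_i}`, `e_i` the exponent of the graph
automorphism (`exists_tau`).
-/

set_option autoImplicit false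

namespace Cfsg.Agent.H79.FieldParam

open Cfsg.Lie
open Cfsg.Agent.H79.DiagSymm
open Cfsg.Agent.H79.EdgeSymm

variable {D : ChevalleyDatum} {F : Type*} [Field F]

/-- The relation between the field automorphisms at the nodes. -/
def Rel (D : ChevalleyDatum) (π : Equiv.Perm (Fin D.rank)) (σ : Fin D.rank → (F ≃+* F)) : Prop :=
  ∀ (i j : Fin D.rank) (a : F), a ≠ 0 →
    σ j (a ^ D.cartan i (D.simple j)) = (σ i a) ^ D.cartan (π i) (D.simple (π j))

variable {π : Equiv.Perm (Fin D.rank)} {σ : Fin D.rank → (F ≃+* F)}

theorem Rel.pow_eq (h : Rel D π σ) {i j : Fin D.rank} {k : ℕ} (hk : k ≠ 0)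
    (h1 : D.cartan i (D.simple j) = -(k : ℤ)) (h2 : D.cartan (π i) (D.simple (π j)) = -1) (a : F) :
    σ i a = (σ j a) ^ k := by
  by_cases ha : a = 0
  · rw [ha, map_zero, map_zero, zero_pow hk]
  · have h3 := h i j a ha
    rw [h1, h2, zpow_neg, zpow_natCast, zpow_neg, zpow_one, map_inv₀, map_pow] at h3
    exact (inv_injective h3).symm

theorem Rel.eq (h : Rel D π σ) {i j : Fin D.rank}
    (h1 : D.cartan i (D.simple j) = -1) (h2 : D.cartan (π i) (D.simple (π j)) = -1) : σ i = σ j := by
  ext a
  have := h.pow_eq one_ne_zero (by rw [h1]; rfl) h2 a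
  rwa [pow_one] at this

/-- The diagram is connected. -/
def Conn (D : ChevalleyDatum) : Prop := ∀ P : ℕ → Prop, P 0 →
  (∀ i j : ℕ, i < D.rank → j < D.rank → i ≠ j → D.cartan i (D.simple j) ≠ 0 → P i → P j) → ∀ i < D.rank, P i

theorem conn_G2 : Conn chevG2 := by
  intro P h0 hs i hi
  have hi : i < 2 := hi
  have h1 : P 1 := hs 0 1 (by decide) (by decide) (by decide) (by decide +kernel) h0
  interval_cases i
  · exact h0
  · exact h1

theorem conn_B2 : Conn chevB2 := by
  intro P h0 hs i hi
  have hi : i < 2 := hi
  have h1 : P 1 := hs 0 1 (by decide) (by decide) (by decide) (by decide +kernel) h0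
  interval_cases i
  · exact h0
  · exact h1

theorem conn_D4 : Conn chevD4 := by
  intro P h0 hs i hi
  have hi : i < 4 := hi
  have h1 : P 1 := hs 0 1 (by decide) (by decide) (by decide) (by decide +kernel) h0
  have h2 : P 2 := hs 1 2 (by decide) (by decide) (by decide) (by decide +kernel) h1
  have h3 : P 3 := hs 1 3 (by decide) (by decide) (by decide) (by decide +kernel) h1
  interval_cases i
  · exact h0
  · exact h1
  · exact h2
  · exact h3

theorem conn_F4 : Conn chevF4 := by
  intro P h0 hs i hi
  have hi : i < 4 := hi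
  have h1 : P 1 := hs 0 1 (by decide) (by decide) (by decide) (by decide +kernel) h0
  have h2 : P 2 := hs 1 2 (by decide) (by decide) (by decide) (by decide +kernel) h1
  have h3 : P 3 := hs 2 3 (by decide) (by decide) (by decide) (by decide +kernel) h2
  interval_cases i
  · exact h0
  · exact h1
  · exact h2
  · exact h3

theorem conn_E6 : Conn chevE6 := by
  intro P h0 hs i hi
  have hi : i < 6 := hi
  have h2 : P 2 := hs 0 2 (by decide) (by decide) (by decide) (by decide +kernel) h0
  have h3 : P 3 := hs 2 3 (by decide) (by decide) (by decide) (by decide +kernel) h2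
  have h1 : P 1 := hs 3 1 (by decide) (by decide) (by decide) (by decide +kernel) h3
  have h4 : P 4 := hs 3 4 (by decide) (by decide) (by decide) (by decide +kernel) h3
  have h5 : P 5 := hs 4 5 (by decide) (by decide) (by decide) (by decide +kernel) h4
  interval_cases i
  · exact h0
  · exact h1
  · exact h2
  · exact h3
  · exact h4
  · exact h5

theorem conn_E7 : Conn chevE7 := by
  intro P h0 hs i hi
  have hi : i < 7 := hi
  have h2 : P 2 := hs 0 2 (by decide) (by decide) (by decide) (by decide +kernel) h0
  have h3 : P 3 := hs 2 3 (by decide) (by decide) (by decide) (by decide +kernel) h2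
  have h1 : P 1 := hs 3 1 (by decide) (by decide) (by decide) (by decide +kernel) h3
  have h4 : P 4 := hs 3 4 (by decide) (by decide) (by decide) (by decide +kernel) h3
  have h5 : P 5 := hs 4 5 (by decide) (by decide) (by decide) (by decide +kernel) h4
  have h6 : P 6 := hs 5 6 (by decide) (by decide) (by decide) (by decide +kernel) h5
  interval_cases i
  · exact h0
  · exact h1
  · exact h2
  · exact h3
  · exact h4
  · exact h5
  · exact h6

theorem conn_E8 : Conn chevE8 := by
  intro P h0 hs i hi
  have hi : i < 8 := hi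
  have h2 : P 2 := hs 0 2 (by decide) (by decide) (by decide) (by decide +kernel) h0
  have h3 : P 3 := hs 2 3 (by decide) (by decide) (by decide) (by decide +kernel) h2
  have h1 : P 1 := hs 3 1 (by decide) (by decide) (by decide) (by decide +kernel) h3
  have h4 : P 4 := hs 3 4 (by decide) (by decide) (by decide) (by decide +kernel) h3
  have h5 : P 5 := hs 4 5 (by decide) (by decide) (by decide) (by decide +kernel) h4
  have h6 : P 6 := hs 5 6 (by decide) (by decide) (by decide) (by decide +kernel) h5
  have h7 : P 7 := hs 6 7 (by decide) (by decide) (by decide) (by decide +kernel) h6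
  interval_cases i
  · exact h0
  · exact h1
  · exact h2
  · exact h3
  · exact h4
  · exact h5
  · exact h6
  · exact h7

theorem conn_of_mem (hD : D ∈ [chevG2, chevB2, chevD4, chevF4, chevE6, chevE7, chevE8]) : Conn D := by
  simp only [List.mem_cons, List.not_mem_nil, or_false] at hD
  rcases hD with rfl | rfl | rfl | rfl | rfl | rfl | rfl
  · exact conn_G2
  · exact conn_B2
  · exact conn_D4
  · exact conn_F4
  · exact conn_E6
  · exact conn_E7
  · exact conn_E8

/-- All field automorphisms are equal if adjacent ones are. -/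
theorem all_eq (hc : Conn D) (hr : 0 < D.rank)
    (h : ∀ i j : Fin D.rank, i ≠ j → D.cartan i (D.simple j) ≠ 0 → σ i = σ j) (i : Fin D.rank) :
    σ i = σ ⟨0, hr⟩ := by
  have h1 := hc (fun i => ∀ hi : i < D.rank, σ ⟨i, hi⟩ = σ ⟨0, hr⟩) (fun _ => rfl)
    (fun i j hi hj hij hne ih hj' => by
      rw [← h ⟨i, hi⟩ ⟨j, hj⟩ (fun e => hij (congrArg Fin.val e)) hne]
      exact ih hi)
  exact h1 i i.isLt i.isLt

/-- In every type one of the two Cartan integers of an edge is `-1`. -/
theorem one_of_edge (hD : D ∈ [chevG2, chevB2, chevD4, chevF4, chevE6, chevE7, chevE8]) :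
    ∀ i < D.rank, ∀ j < D.rank, i ≠ j → D.cartan i (D.simple j) ≠ 0 →
      D.cartan i (D.simple j) = -1 ∨ D.cartan j (D.simple i) = -1 := by
  simp only [List.mem_cons, List.not_mem_nil, or_false] at hD
  rcases hD with rfl | rfl | rfl | rfl | rfl | rfl | rfl <;> decide +kernel

/-- One root length: the Cartan integer of an edge is `-1` and no fundamental root is long. -/
theorem laced_of_mem (hD : D ∈ [chevD4, chevE6, chevE7, chevE8]) :
    (∀ i < D.rank, ∀ j < D.rank, i ≠ j → D.cartan i (D.simple j) ≠ 0 → D.cartan i (D.simple j) = -1) ∧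
      ∀ i < D.rank, D.isLong (D.simple i) = false := by
  simp only [List.mem_cons, List.not_mem_nil, or_false] at hD
  rcases hD with rfl | rfl | rfl | rfl
  · exact ⟨by decide +kernel, by decide +kernel⟩
  · exact ⟨by decide +kernel, by decide +kernel⟩
  · exact ⟨by decide +kernel, by decide +kernel⟩
  · exact ⟨by decide +kernel, by decide +kernel⟩

theorem graphExp_of_not_long {c i j : ℕ} (h : D.isLong (D.simple j) = false) : D.graphExp c i j = 1 := by
  unfold ChevalleyDatum.graphExp
  rw [h]
  rfl

theorem graphExp_self (c i : ℕ) : D.graphExp c i i = 1 := by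
  unfold ChevalleyDatum.graphExp
  cases D.isLong (D.simple i) <;> rfl

theorem graphExp_of_long {c i j : ℕ} (h : D.isLong (D.simple j) = true) (h' : D.isLong (D.simple i) = false) :
    D.graphExp c i j = c := by
  unfold ChevalleyDatum.graphExp
  rw [h, h']
  rfl

/-- In characteristic two or three (or over the field with two elements) the power map of the bond is the power map
of the characteristic. -/
theorem two_of_sq {s : F ≃+* F} {s' : F ≃+* F} (h : ∀ a, s a = (s' a) ^ 2) : ringChar F = 2 := by
  have h1 : (2 : F) = 0 := by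
    have h2 : s (1 + 1) = s 1 + s 1 := map_add _ _ _
    rw [h, h, map_add, map_one] at h2
    have h3 : ((1 : F) + 1) ^ 2 = 1 ^ 2 + 1 ^ 2 := h2
    have h4 : (2 : F) = ((1 : F) + 1) ^ 2 - (1 ^ 2 + 1 ^ 2) := by ring
    rw [h4, h3, sub_self]
  have h2 : ringChar F ∣ 2 := (ringChar.spec F 2).1 (by exact_mod_cast h1)
  have h3 : ringChar F ≠ 1 := by
    intro h4
    have h5 : ((1 : ℕ) : F) = 0 := (ringChar.spec F 1).2 (by rw [h4])
    rw [Nat.cast_one] at h5
    exact one_ne_zero h5
  rcases (Nat.dvd_prime Nat.prime_two).1 h2 with h4 | h4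
  · exact absurd h4 h3
  · exact h4

theorem three_of_cube {s : F ≃+* F} {s' : F ≃+* F} (h : ∀ a, s a = (s' a) ^ 3) (a : F) :
    (s' a) ^ 3 = (s' a) ^ ringChar F := by
  have key : ∀ x y : F, 3 * (x * y * (x + y)) = 0 := by
    intro x y
    obtain ⟨a, rfl⟩ := s'.surjective x
    obtain ⟨b, rfl⟩ := s'.surjective y
    have h2 : s (a + b) = s a + s b := map_add _ _ _
    rw [h, h, h, map_add] at h2
    linear_combination h2
  by_cases h3 : (3 : F) = 0
  · have h2 : ringChar F ∣ 3 := (ringChar.spec F 3).1 (by exact_mod_cast h3)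
    have h4 : ringChar F ≠ 1 := by
      intro h4
      have h5 : ((1 : ℕ) : F) = 0 := (ringChar.spec F 1).2 (by rw [h4])
      rw [Nat.cast_one] at h5
      exact one_ne_zero h5
    rcases (Nat.dvd_prime Nat.prime_three).1 h2 with h5 | h5
    · exact absurd h5 h4
    · rw [h5]
  · have h4 : ∀ y : F, y = 0 ∨ y = 1 := by
      intro y
      have h2 : (2 : F) = 0 := by
        have := (mul_eq_zero.1 (key 1 1)).resolve_left h3
        rw [one_mul, one_mul] at this
        have h5 : (2 : F) = 1 + 1 := by norm_num
        rw [h5, this]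
      have h5 := (mul_eq_zero.1 (key 1 y)).resolve_left h3
      rw [one_mul] at h5
      rcases mul_eq_zero.1 h5 with h6 | h6
      · exact Or.inl h6
      · right
        have : y = -1 := by
          rw [eq_neg_iff_add_eq_zero, add_comm]
          exact h6
        rw [this]
        have h7 : (-1 : F) = 1 - 2 := by norm_num
        rw [h7, h2, sub_zero]
    have h5 : ringChar F ≠ 0 := by
      intro h5
      have h6 : ((2 : ℕ) : F) = 0 := by
        have := (mul_eq_zero.1 (key 1 1)).resolve_left h3
        rw [one_mul, one_mul] at this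
        have h7 : ((2 : ℕ) : F) = 1 + 1 := by norm_num
        rw [h7, this]
      have h7 := (ringChar.spec F 2).1 h6
      rw [h5] at h7
      simp at h7
    rcases h4 (s' a) with h6 | h6
    · rw [h6, zero_pow (by norm_num), zero_pow h5]
    · rw [h6, one_pow, one_pow]

/-- The common field automorphism. -/
theorem exists_tau (hD : D ∈ [chevG2, chevB2, chevD4, chevF4, chevE6, chevE7, chevE8])
    (hr : 0 < D.rank) (hπ : EdgePres D π) (h : Rel D π σ) :
    ∃ τ : F ≃+* F, ∀ (i : Fin D.rank) (t : F), σ i t = (τ t) ^ D.graphExp (ringChar F) i (π i) := by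
  by_cases hl : D ∈ [chevD4, chevE6, chevE7, chevE8]
  · obtain ⟨h1, h2⟩ := laced_of_mem hl
    refine ⟨σ ⟨0, hr⟩, fun i t => ?_⟩
    rw [graphExp_of_not_long (h2 _ (π i).isLt), pow_one]
    rw [all_eq (σ := σ) (conn_of_mem hD) hr (fun i j hij hne => ?_) i]
    have h3 := h1 i i.isLt j j.isLt (fun e => hij (Fin.ext e)) hne
    have h4 : D.cartan (π i) (D.simple (π j)) ≠ 0 := fun e => hne ((hπ i j hij).1 e)
    exact h.eq h3 (h1 _ (π i).isLt _ (π j).isLt (fun e => hij (π.injective (Fin.ext e))) h4)
  · by_cases h1 : π = 1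
    · refine ⟨σ ⟨0, hr⟩, fun i t => ?_⟩
      rw [h1, Equiv.Perm.one_apply, graphExp_self, pow_one]
      rw [all_eq (σ := σ) (conn_of_mem hD) hr (fun i j hij hne => ?_) i]
      rcases one_of_edge hD i i.isLt j j.isLt (fun e => hij (Fin.ext e)) hne with h3 | h3
      · exact h.eq h3 (by rw [h1]; exact h3)
      · exact (h.eq h3 (by rw [h1]; exact h3)).symm
    · have h5 : imgs π ≠ List.range D.rank := fun h => h1 (eq_of_imgs (h.trans imgs_one.symm))
      have hD' : D = chevG2 ∨ D = chevB2 ∨ D = chevF4 := by
        simp only [List.mem_cons, List.not_mem_nil, or_false] at hD hl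
        tauto
      rcases hD' with rfl | rfl | rfl
      · -- type G₂
        have h6 := edge_G2 hπ
        have h7 : imgs π = [1, 0] := by
          simp only [List.mem_cons, List.not_mem_nil, or_false] at h6
          rcases h6 with h6 | h6
          · exact absurd h6 h5
          · exact h6
        have p0 : ((π ⟨0, by decide⟩ : Fin chevG2.rank) : ℕ) = 1 := by rw [← imgs_getD, h7]; rfl
        have p1 : ((π ⟨1, by decide⟩ : Fin chevG2.rank) : ℕ) = 0 := by rw [← imgs_getD, h7]; rfl
        have r01 := h.pow_eq (i := ⟨0, by decide⟩) (j := ⟨1, by decide⟩) (k := 3) (by decide) (by decide +kernel)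
          (by rw [p0, p1]; decide +kernel)
        refine ⟨σ ⟨1, by decide⟩, fun i t => ?_⟩
        have hi : i.val < 2 := i.isLt
        obtain ⟨i, hi'⟩ := i
        simp only at hi
        interval_cases i
        · rw [r01, three_of_cube r01, p0,
            show chevG2.graphExp (ringChar F) 0 1 = ringChar F from
              graphExp_of_long (by decide +kernel) (by decide +kernel)]
        · rw [p1, graphExp_of_not_long (by decide +kernel), pow_one]
      · -- type B₂
        have h6 := edge_B2 hπ
        have h7 : imgs π = [1, 0] := by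
          simp only [List.mem_cons, List.not_mem_nil, or_false] at h6
          rcases h6 with h6 | h6
          · exact absurd h6 h5
          · exact h6
        have p0 : ((π ⟨0, by decide⟩ : Fin chevB2.rank) : ℕ) = 1 := by rw [← imgs_getD, h7]; rfl
        have p1 : ((π ⟨1, by decide⟩ : Fin chevB2.rank) : ℕ) = 0 := by rw [← imgs_getD, h7]; rfl
        have r01 := h.pow_eq (i := ⟨0, by decide⟩) (j := ⟨1, by decide⟩) (k := 2) (by decide) (by decide +kernel)
          (by rw [p0, p1]; decide +kernel)
        refine ⟨σ ⟨1, by decide⟩, fun i t => ?_⟩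
        have hi : i.val < 2 := i.isLt
        obtain ⟨i, hi'⟩ := i
        simp only at hi
        interval_cases i
        · rw [r01, p0, show chevB2.graphExp (ringChar F) 0 1 = ringChar F from
              graphExp_of_long (by decide +kernel) (by decide +kernel), two_of_sq r01]
        · rw [p1, graphExp_of_not_long (by decide +kernel), pow_one]
      · -- type F₄
        have h6 := edge_F4 hπ
        have h7 : imgs π = [3, 2, 1, 0] := by
          simp only [List.mem_cons, List.not_mem_nil, or_false] at h6
          rcases h6 with h6 | h6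
          · exact absurd h6 h5
          · exact h6
        have p0 : ((π ⟨0, by decide⟩ : Fin chevF4.rank) : ℕ) = 3 := by rw [← imgs_getD, h7]; rfl
        have p1 : ((π ⟨1, by decide⟩ : Fin chevF4.rank) : ℕ) = 2 := by rw [← imgs_getD, h7]; rfl
        have p2 : ((π ⟨2, by decide⟩ : Fin chevF4.rank) : ℕ) = 1 := by rw [← imgs_getD, h7]; rfl
        have p3 : ((π ⟨3, by decide⟩ : Fin chevF4.rank) : ℕ) = 0 := by rw [← imgs_getD, h7]; rfl
        have r12 := h.pow_eq (i := ⟨1, by decide⟩) (j := ⟨2, by decide⟩) (k := 2) (by decide) (by decide +kernel)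
          (by rw [p1, p2]; decide +kernel)
        have r01 := h.eq (i := ⟨0, by decide⟩) (j := ⟨1, by decide⟩) (by decide +kernel)
          (by rw [p0, p1]; decide +kernel)
        have r23 := h.eq (i := ⟨2, by decide⟩) (j := ⟨3, by decide⟩) (by decide +kernel)
          (by rw [p2, p3]; decide +kernel)
        refine ⟨σ ⟨2, by decide⟩, fun i t => ?_⟩
        have hi : i.val < 4 := i.isLt
        obtain ⟨i, hi'⟩ := i
        simp only at hi
        interval_cases i
        · rw [r01, r12, p0, show chevF4.graphExp (ringChar F) 0 3 = ringChar F from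
              graphExp_of_long (by decide +kernel) (by decide +kernel), two_of_sq r12]
        · rw [r12, p1, show chevF4.graphExp (ringChar F) 1 2 = ringChar F from
              graphExp_of_long (by decide +kernel) (by decide +kernel), two_of_sq r12]
        · rw [p2, graphExp_of_not_long (by decide +kernel), pow_one]
        · rw [← r23, p3, graphExp_of_not_long (by decide +kernel), pow_one]

end Cfsg.Agent.H79.FieldParam
end
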