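import Cfsg.Agent.H70.ChevField
import Cfsg.Agent.H79.DiagAuts
import Cfsg.Agent.H79.FieldParam
set_option linter.all false

/-!
# Steinberg's theorem on the automorphisms of the finite Chevalley groups (seven tabulated types)

`exists_fac` : every automorphism is a product of an inner, a diagonal, a graph and a field automorphism.
-/

set_option autoImplicit false

namespace Cfsg.Agent.H79.Steinberg

open Cfsg.Lie
open Cfsg.Agent.ChevalleyStructure
open Cfsg.Agent.ChevalleyStructure.Elts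
open Cfsg.Agent.H79.SimpleGen
open Cfsg.Agent.H79.OutChev
open Cfsg.Agent.H79.FieldAuts
open Cfsg.Agent.H79.DiagAuts
open Cfsg.Agent.H79.FieldParam
open Cfsg.Agent.H79.EdgeSymm

universe u

variable {F : Type u} [Field F] {D : ChevalleyDatum}

theorem isGraphAut_of_isGr (hD : InList D) {π : Equiv.Perm (Fin D.rank)} (hπ : D.IsDiagramSymmetry π)
    {g : MulAut ↥(D.group F)} (hg : IsGr hD π (fun i => D.graphExp (ringChar F) i (π i)) g) : D.IsGraphAut g := by
  refine ⟨π, hπ, fun y i t => ⟨fun hy => ?_, fun hy => ?_⟩⟩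
  · rw [(eq_xS_iff hD y _ t).2 hy, (hg i t).1]
    rfl
  · rw [(eq_xS_iff hD y _ t).2 hy, (hg i t).2]
    rfl

theorem exists_fac_mul (hD : InList D) [Finite F] (θ : MulAut ↥(D.group F)) :
    ∃ (x : ↥(D.group F)) (d g f : MulAut ↥(D.group F)),
      D.IsDiagonalAut d ∧ D.IsGraphAut g ∧ D.IsFieldAut f ∧ θ = MulAut.conj x * d * g * f := by
  obtain ⟨x, π, -, -, h1, h2⟩ := H70.ChevFix.exists_conj_perm hD θ
  set φ := MulAut.conj x * θ with hφdef
  have hφ : H70.ChevField.Perm D F φ π := ⟨h1, h2⟩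
  obtain ⟨c, σ, hc, hpos, hneg, hrel⟩ := H70.ChevField.exists_field hD hφ
  have hedge : EdgePres D π := fun i j hij => H70.ChevField.cartan_eq_zero_iff hφ hD hij
  have hr : 0 < D.rank := (RootComb.good_of_mem hD).rank_pos
  obtain ⟨τ, hτ⟩ := exists_tau hD hr hedge hrel
  obtain ⟨δ, hδ, hδd⟩ := exists_isD (F := F) hD (fun j => Units.mk0 (c (π.symm j)) (hc _))
  let f : MulAut ↥(D.group F) := fieldHom hD F τ
  let g : MulAut ↥(D.group F) := δ⁻¹ * φ * f⁻¹
  have hfinv : f⁻¹ = fieldHom hD F τ⁻¹ := (map_inv (fieldHom hD F) τ).symm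
  have hτt : ∀ t : F, τ ((τ⁻¹ : RingAut F) t) = t := fun t => τ.apply_symm_apply t
  have hg : IsGr hD π (fun i => D.graphExp (ringChar F) i (π i)) g := by
    intro i t
    constructor
    · show δ⁻¹ (φ (f⁻¹ (xS hD (D.simple i) t))) = _
      rw [hfinv, fieldHom_xS hD _ (simple_lt hD i.isLt)]
      have e1 : φ (xS hD (D.simple i) ((τ⁻¹ : RingAut F) t)) =
          xS hD (D.simple (π i)) (c i * σ i ((τ⁻¹ : RingAut F) t)) := hpos i _
      rw [e1, hτ, hτt]
      have e2 := (hδ (π i) (t ^ D.graphExp (ringChar F) i (π i))).1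
      simp only [Equiv.symm_apply_apply, Units.val_mk0] at e2
      rw [← e2, MulAut.inv_apply_self]
    · show δ⁻¹ (φ (f⁻¹ (xS hD (D.neg (D.simple i)) t))) = _
      rw [hfinv, fieldHom_xS hD _ (neg_simple_lt hD i.isLt)]
      have e1 : φ (xS hD (D.neg (D.simple i)) ((τ⁻¹ : RingAut F) t)) =
          xS hD (D.neg (D.simple (π i))) ((c i)⁻¹ * σ i ((τ⁻¹ : RingAut F) t)) := hneg i _
      rw [e1, hτ, hτt]
      have e2 := (hδ (π i) (t ^ D.graphExp (ringChar F) i (π i))).2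
      simp only [Equiv.symm_apply_apply, Units.val_inv_eq_inv_val, Units.val_mk0] at e2
      rw [← e2, MulAut.inv_apply_self]
  refine ⟨x⁻¹, δ, g, f, hδd, isGraphAut_of_isGr hD (isDiagramSymmetry_of_edge hD hedge) hg,
    (isFieldAut_iff hD f).2 ⟨τ, rfl⟩, ?_⟩
  have : MulAut.conj x⁻¹ * δ * g * f = MulAut.conj x⁻¹ * φ := by
    simp only [g]
    group
  rw [this, hφdef, ← mul_assoc, ← map_mul, inv_mul_cancel, map_one, one_mul]

theorem exists_fac (hD : InList D) [Finite F] (θ : ↥(D.group F) ≃* ↥(D.group F)) :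
    ∃ (x : ↥(D.group F)) (d g f : ↥(D.group F) ≃* ↥(D.group F)),
      D.IsDiagonalAut d ∧ D.IsGraphAut g ∧ D.IsFieldAut f ∧ ∀ y : ↥(D.group F), θ y = x * d (g (f y)) * x⁻¹ := by
  obtain ⟨x, d, g, f, hd, hg, hf, h⟩ := exists_fac_mul hD θ
  refine ⟨x, d, g, f, hd, hg, hf, fun y => ?_⟩
  rw [h]
  rfl

end Cfsg.Agent.H79.Steinberg
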