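import Mathlib
set_option linter.all false

/-!
# Orbits of a finite commutative group and the annihilators of its point stabilizers

`M` is a finite additive commutative group acting on the finite set `X` through a map
`T : M → G` (`T (a + b) = T a * T b`) into a group `G` acting on `X`.  `B x` is the stabilizer of
`x` in `M`; `κ : M → W → Prop` is an orthogonality relation (`κ a w` means that the character `w`
is trivial at `a`) such that the annihilator of every subgroup `B` of `M` has order
`r * B.index`.  `A x` is the annihilator of `B x`.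

* `card_eq` : `r * |X| = ∑ w, k w` with `k w` the number of `M`-orbits with `w ∈ A x`;
* `card_eq_of_const` : the same with constant values of `k`;
* `k_conj` : `k` is invariant under the elements of `G` normalizing `T M`;
* `A_eq_of_k_eq_one` : if `k w = 1` then `A x = A y` for all `x`, `y` with `w` in `A x` and `A y`.
-/

set_option autoImplicit false

namespace Cfsg.Agent.H79.OrbitDual

variable {G X M W : Type*} [Group G] [MulAction G X] [AddCommGroup M]

/-- The data: a commutative group acting through `T`. -/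
structure Act (G X M : Type*) [Group G] [MulAction G X] [AddCommGroup M] where
  T : M → G
  map_add : ∀ a b, T (a + b) = T a * T b

namespace Act

variable (D : Act G X M)

theorem map_zero : D.T 0 = 1 := by
  have := D.map_add 0 0
  rw [add_zero] at this
  exact (mul_eq_left.1 this.symm)

theorem map_neg (a : M) : D.T (-a) = (D.T a)⁻¹ := by
  rw [eq_inv_iff_mul_eq_one, ← D.map_add, neg_add_cancel, D.map_zero]

theorem comm (a b : M) : D.T a * D.T b = D.T b * D.T a := by
  rw [← D.map_add, add_comm, D.map_add]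

/-- The stabilizer of `x`. -/
def B (x : X) : AddSubgroup M where
  carrier := {a | D.T a • x = x}
  zero_mem' := by
    change D.T 0 • x = x
    rw [D.map_zero, one_smul]
  add_mem' := by
    intro a b ha hb
    change D.T (a + b) • x = x
    rw [D.map_add, mul_smul, show D.T b • x = x from hb, show D.T a • x = x from ha]
  neg_mem' := by
    intro a ha
    change D.T (-a) • x = x
    rw [D.map_neg, inv_smul_eq_iff]
    exact (show D.T a • x = x from ha).symm

theorem mem_B {x : X} {a : M} : a ∈ D.B x ↔ D.T a • x = x := Iff.rfl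

theorem B_smul (x : X) (a : M) : D.B (D.T a • x) = D.B x := by
  ext b
  rw [mem_B, mem_B, ← mul_smul, D.comm, mul_smul, smul_left_cancel_iff]

/-- The orbit relation. -/
def rel : Setoid X where
  r x y := ∃ a, D.T a • x = y
  iseqv := {
    refl := fun x => ⟨0, by rw [D.map_zero, one_smul]⟩
    symm := by
      rintro x y ⟨a, rfl⟩
      exact ⟨-a, by rw [D.map_neg, inv_smul_smul]⟩
    trans := by
      rintro x y z ⟨a, rfl⟩ ⟨b, rfl⟩
      exact ⟨b + a, by rw [D.map_add, mul_smul]⟩ }

theorem rel_iff {x y : X} : D.rel x y ↔ ∃ a, D.T a • x = y := Iff.rfl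

theorem B_eq_of_rel {x y : X} (h : D.rel x y) : D.B x = D.B y := by
  obtain ⟨a, rfl⟩ := h
  rw [D.B_smul]

/-- The set of orbits. -/
abbrev Orb : Type _ := Quotient D.rel

/-- The orbit of `x` has as many elements as the index of the stabilizer. -/
theorem card_orbit (x : X) : Nat.card {y // D.rel x y} = (D.B x).index := by
  rw [AddSubgroup.index]
  refine (Nat.card_congr (Equiv.ofBijective
    (fun c : M ⧸ D.B x => (⟨Quotient.liftOn' c (fun a => D.T a • x) (by
      intro a b hab
      rw [QuotientAddGroup.leftRel_apply, mem_B, D.map_add, D.map_neg, mul_smul,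
        inv_smul_eq_iff] at hab
      exact hab.symm), by
      induction c using QuotientAddGroup.induction_on with
      | H a => exact ⟨a, rfl⟩⟩ : {y // D.rel x y})) ⟨?_, ?_⟩)).symm
  · intro c c' h
    induction c using QuotientAddGroup.induction_on with
    | H a =>
      induction c' using QuotientAddGroup.induction_on with
      | H b =>
        have h1 : D.T a • x = D.T b • x := congrArg Subtype.val h
        rw [QuotientAddGroup.eq, mem_B, D.map_add, D.map_neg, mul_smul, inv_smul_eq_iff]
        exact h1.symm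
  · rintro ⟨y, a, rfl⟩
    exact ⟨(a : M ⧸ D.B x), rfl⟩

section Ann

variable (κ : M → W → Prop)

/-- The annihilator of the stabilizer of `x`. -/
def A (x : X) : Set W := {w | ∀ a ∈ D.B x, κ a w}

theorem mem_A {x : X} {w : W} : w ∈ D.A κ x ↔ ∀ a ∈ D.B x, κ a w := Iff.rfl

theorem A_eq_of_rel {x y : X} (h : D.rel x y) : D.A κ x = D.A κ y := by
  ext w
  rw [mem_A, mem_A, D.B_eq_of_rel h]

/-- The set of orbits with `w` in the annihilator. -/
def K (w : W) : Set D.Orb := {O | w ∈ D.A κ O.out}

theorem mk_mem_K {x : X} {w : W} : (Quotient.mk D.rel x) ∈ D.K κ w ↔ w ∈ D.A κ x := by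
  have h : D.rel (Quotient.mk D.rel x).out x := Quotient.mk_out x
  change w ∈ D.A κ (Quotient.mk D.rel x).out ↔ _
  rw [D.A_eq_of_rel κ h]

/-- The number of orbits with `w` in the annihilator. -/
noncomputable def k (w : W) : ℕ := Nat.card (D.K κ w)

theorem card_eq [Finite X] [Fintype W] {r : ℕ}
    (hκ : ∀ B : AddSubgroup M, Nat.card {w // ∀ a ∈ B, κ a w} = r * B.index) :
    r * Nat.card X = ∑ w, D.k κ w := by
  classical
  have : Finite D.Orb := inferInstance
  have := Fintype.ofFinite D.Orb
  -- pairs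
  have h1 : Nat.card (Σ O : D.Orb, {w // w ∈ D.A κ O.out}) = ∑ w, D.k κ w := by
    rw [show (∑ w, D.k κ w) = Nat.card (Σ w, D.K κ w) by
      have : ∀ w, Finite (D.K κ w) := fun w => inferInstance
      rw [Nat.card_sigma]
      rfl]
    refine Nat.card_congr ⟨fun p => ⟨p.2.1, ⟨p.1, p.2.2⟩⟩, fun p => ⟨p.2.1, ⟨p.1, p.2.2⟩⟩,
      fun p => rfl, fun p => rfl⟩
  have h2 : Nat.card X = ∑ O : D.Orb, Nat.card {y // D.rel O.out y} := by
    rw [← Nat.card_sigma]
    refine Nat.card_congr ⟨fun x => ⟨Quotient.mk D.rel x, ⟨x, Quotient.mk_out x⟩⟩, fun p => p.2.1,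
      fun x => rfl, ?_⟩
    rintro ⟨O, y, hy⟩
    have h3 : Quotient.mk D.rel y = O := by
      rw [← O.out_eq]
      exact Quotient.sound (D.rel.symm hy)
    subst h3
    rfl
  rw [← h1, Nat.card_sigma, h2, Finset.mul_sum]
  refine Finset.sum_congr rfl fun O _ => ?_
  rw [D.card_orbit]
  exact (hκ _).symm

theorem card_eq_of_const [Finite X] [Finite W] {r : ℕ}
    (hκ : ∀ B : AddSubgroup M, Nat.card {w // ∀ a ∈ B, κ a w} = r * B.index)
    (S : Set W) {c : ℕ} (hS : ∀ w ∈ S, D.k κ w = c) (hS' : ∀ w ∉ S, ∀ a, κ a w) :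
    r * Nat.card X = Nat.card D.Orb * Nat.card (Sᶜ : Set W) + c * Nat.card S := by
  classical
  have := Fintype.ofFinite W
  have h0 : ∀ w ∉ S, D.k κ w = Nat.card D.Orb := by
    intro w hw
    rw [k, show D.K κ w = Set.univ from Set.eq_univ_of_forall fun O a _ => hS' w hw a,
      Nat.card_univ]
  rw [D.card_eq κ hκ, ← Finset.sum_filter_add_sum_filter_not Finset.univ (fun w => w ∈ S),
    Finset.sum_congr rfl (g := fun _ => c) (fun w hw => hS w (Finset.mem_filter.1 hw).2),
    Finset.sum_congr (s₁ := Finset.univ.filter fun w => w ∉ S) rfl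
      (g := fun _ => Nat.card D.Orb) (fun w hw => h0 w (Finset.mem_filter.1 hw).2),
    Finset.sum_const, Finset.sum_const, smul_eq_mul, smul_eq_mul,
    Nat.card_eq_fintype_card (α := (Sᶜ : Set W)), Nat.card_eq_fintype_card (α := S),
    Fintype.card_subtype, Fintype.card_subtype]
  simp only [Set.mem_compl_iff]
  ring

/-- `k` is invariant under the normalizer. -/
theorem mem_A_conj (g : G) (τ : M ≃ M) (σ : W → W) (hτ : ∀ a, g * D.T a * g⁻¹ = D.T (τ a))
    (hκσ : ∀ a w, κ (τ a) (σ w) ↔ κ a w) (x : X) (w : W) :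
    σ w ∈ D.A κ (g • x) ↔ w ∈ D.A κ x := by
  have h1 : ∀ a, τ a ∈ D.B (g • x) ↔ a ∈ D.B x := by
    intro a
    rw [mem_B, mem_B, ← hτ, mul_smul, inv_smul_smul, mul_smul, smul_left_cancel_iff]
  rw [mem_A, mem_A]
  constructor
  · intro h a ha
    exact (hκσ a w).1 (h _ ((h1 a).2 ha))
  · intro h a ha
    obtain ⟨a, rfl⟩ := τ.surjective a
    exact (hκσ a w).2 (h _ ((h1 a).1 ha))

theorem rel_conj (g : G) (τ : M → M) (hτ : ∀ a, g * D.T a * g⁻¹ = D.T (τ a)) {x y : X}
    (h : D.rel x y) : D.rel (g • x) (g • y) := by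
  obtain ⟨a, rfl⟩ := h
  exact ⟨τ a, by rw [← hτ, mul_smul, inv_smul_smul, mul_smul]⟩

theorem k_conj (g : G) (τ : M ≃ M) (σ : W → W) (hτ : ∀ a, g * D.T a * g⁻¹ = D.T (τ a))
    (hκσ : ∀ a w, κ (τ a) (σ w) ↔ κ a w) (w : W) : D.k κ (σ w) = D.k κ w := by
  have hτ' : ∀ a, g⁻¹ * D.T a * g⁻¹⁻¹ = D.T (τ.symm a) := by
    intro a
    have h1 := hτ (τ.symm a)
    rw [Equiv.apply_symm_apply] at h1
    rw [← h1]
    group
  let e : D.Orb ≃ D.Orb := {
    toFun := Quotient.map (fun x => g • x) (fun x y h => D.rel_conj g τ hτ h)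
    invFun := Quotient.map (fun x => g⁻¹ • x) (fun x y h => D.rel_conj g⁻¹ τ.symm hτ' h)
    left_inv := by
      intro O
      induction O using Quotient.inductionOn with
      | h x => simp [Quotient.map_mk]
    right_inv := by
      intro O
      induction O using Quotient.inductionOn with
      | h x => simp [Quotient.map_mk] }
  refine (Nat.card_congr (e.subtypeEquiv ?_)).symm
  intro O
  induction O using Quotient.inductionOn with
  | h x =>
    have h1 : e (Quotient.mk D.rel x) = Quotient.mk D.rel (g • x) := rfl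
    rw [h1, mk_mem_K, mk_mem_K, D.mem_A_conj κ g τ σ hτ hκσ]

/-- If only one orbit has `w` in its annihilator then the annihilators containing `w` agree. -/
theorem rel_of_k_eq_one {w : W} (hw : D.k κ w = 1) {x y : X} (hx : w ∈ D.A κ x)
    (hy : w ∈ D.A κ y) : D.rel x y := by
  have h1 : Subsingleton (D.K κ w) := (Nat.card_eq_one_iff_unique.1 hw).1
  have h2 := h1.elim ⟨Quotient.mk D.rel x, (D.mk_mem_K κ).2 hx⟩
    ⟨Quotient.mk D.rel y, (D.mk_mem_K κ).2 hy⟩
  exact Quotient.exact (congrArg Subtype.val h2)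

theorem A_eq_of_k_eq_one {w : W} (hw : D.k κ w = 1) {x y : X} (hx : w ∈ D.A κ x)
    (hy : w ∈ D.A κ y) : D.A κ x = D.A κ y :=
  D.A_eq_of_rel κ (D.rel_of_k_eq_one κ hw hx hy)

theorem exists_of_k_ne_zero {w : W} (hw : D.k κ w ≠ 0) : ∃ x, w ∈ D.A κ x := by
  have h1 : Nonempty (D.K κ w) := (Nat.card_ne_zero.1 hw).1
  obtain ⟨O, hO⟩ := h1
  exact ⟨O.out, hO⟩

theorem notMem_A_of_k_eq_zero [Finite X] {w : W} (hw : D.k κ w = 0) (x : X) : w ∉ D.A κ x := by
  intro hx
  have : Finite D.Orb := inferInstance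
  rcases Nat.card_eq_zero.1 hw with h | h
  · exact h.elim ⟨Quotient.mk D.rel x, (D.mk_mem_K κ).2 hx⟩
  · exact not_finite (D.K κ w)

/-- The order of the annihilator. -/
theorem card_A {r : ℕ}
    (hκ : ∀ B : AddSubgroup M, Nat.card {w // ∀ a ∈ B, κ a w} = r * B.index) (x : X) :
    Nat.card (D.A κ x) = r * (D.B x).index := hκ _

end Ann

/-- The sum of the orbit lengths. -/
theorem card_eq_sum_index [Fintype D.Orb] [Finite X] :
    Nat.card X = ∑ O : D.Orb, (D.B O.out).index := by
  have h2 : Nat.card X = ∑ O : D.Orb, Nat.card {y // D.rel O.out y} := by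
    rw [← Nat.card_sigma]
    refine Nat.card_congr ⟨fun x => ⟨Quotient.mk D.rel x, ⟨x, Quotient.mk_out x⟩⟩, fun p => p.2.1,
      fun x => rfl, ?_⟩
    rintro ⟨O, y, hy⟩
    have h3 : Quotient.mk D.rel y = O := by
      rw [← O.out_eq]
      exact Quotient.sound (D.rel.symm hy)
    subst h3
    rfl
  rw [h2]
  exact Finset.sum_congr rfl fun O _ => D.card_orbit _

/-- If all orbits have length at most `s` and `|X|` is `s` times the number of orbits then all
orbits have length `s`. -/
theorem index_eq_of_le [Finite X] {s : ℕ} (hs : ∀ x, (D.B x).index ≤ s)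
    (hX : Nat.card D.Orb * s ≤ Nat.card X) (x : X) : (D.B x).index = s := by
  classical
  have := Fintype.ofFinite D.Orb
  rw [D.card_eq_sum_index, Nat.card_eq_fintype_card, ← smul_eq_mul, ← Finset.card_univ,
    ← Finset.sum_const] at hX
  have h1 := (Finset.sum_eq_sum_iff_of_le (s := Finset.univ)
    (f := fun O : D.Orb => (D.B O.out).index) (g := fun _ => s) (fun O _ => hs O.out)).1
    (le_antisymm (Finset.sum_le_sum fun O _ => hs O.out) hX) (Quotient.mk D.rel x)
    (Finset.mem_univ _)
  rw [← h1]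
  exact (congrArg AddSubgroup.index (D.B_eq_of_rel (Quotient.mk_out x : D.rel _ x))).symm

end Act

section Char

open AddChar

variable {M W : Type*} [AddCommGroup M] [Finite M] [AddCommGroup W] [Finite W]

/-- The number of characters trivial on a subgroup. -/
theorem card_char (B : AddSubgroup M) :
    Nat.card {χ : AddChar M ℂ // ∀ a ∈ B, χ a = 1} = B.index := by
  classical
  rw [AddSubgroup.index]
  have := Fintype.ofFinite (M ⧸ B)
  rw [Nat.card_eq_fintype_card (α := M ⧸ B), ← AddChar.card_eq (α := M ⧸ B),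
    ← Nat.card_eq_fintype_card]
  refine (Nat.card_congr (Equiv.ofBijective
    (fun χ : AddChar (M ⧸ B) ℂ => (⟨χ.compAddMonoidHom (QuotientAddGroup.mk' B), fun a ha => by
      rw [AddChar.compAddMonoidHom_apply, QuotientAddGroup.mk'_apply,
        (QuotientAddGroup.eq_zero_iff a).2 ha, AddChar.map_zero_eq_one]⟩ :
      {χ : AddChar M ℂ // ∀ a ∈ B, χ a = 1})) ⟨?_, ?_⟩)).symm
  · intro χ χ' h
    exact AddChar.compAddMonoidHom_injective_left _ (QuotientAddGroup.mk'_surjective B)
      (congrArg Subtype.val h)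
  · rintro ⟨χ, hχ⟩
    have h1 : B ≤ χ.toAddMonoidHom.ker := by
      intro a ha
      rw [AddMonoidHom.mem_ker, AddChar.toAddMonoidHom_apply, hχ a ha]
      rfl
    refine ⟨AddChar.toAddMonoidHomEquiv.symm (QuotientAddGroup.lift B χ.toAddMonoidHom h1), ?_⟩
    apply Subtype.ext
    apply AddChar.ext
    intro a
    rfl

/-- The number of elements of `W` orthogonal to a subgroup of `M`, for a pairing given by an
additive map `f : W → AddChar M ℂ` with kernel of order `r`, `|W| = r |M|`. -/
theorem card_ann (f : W → AddChar M ℂ) (hf : ∀ v w a, f (v + w) a = f v a * f w a) {r : ℕ}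
    (hr : Nat.card {w // ∀ a, f w a = 1} = r) (hW : Nat.card W = r * Nat.card M)
    (B : AddSubgroup M) : Nat.card {w // ∀ a ∈ B, f w a = 1} = r * B.index := by
  classical
  have := Fintype.ofFinite M
  let φ : W →+ AddChar M ℂ := AddMonoidHom.mk' f (fun v w => by
    apply AddChar.ext
    intro a
    rw [hf, AddChar.add_apply])
  have hker : Nat.card φ.ker = r := by
    rw [← hr]
    refine Nat.card_congr (Equiv.subtypeEquivRight fun w => ?_)
    rw [AddMonoidHom.mem_ker, AddChar.eq_zero_iff]
    rfl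
  have hrpos : 0 < r := by
    rw [← hker]
    exact Nat.card_pos
  have hdual : Nat.card (AddChar M ℂ) = Nat.card M := by
    rw [Nat.card_eq_fintype_card, Nat.card_eq_fintype_card, AddChar.card_eq]
  have hsurj : Function.Surjective φ := by
    rw [← AddMonoidHom.range_eq_top]
    apply AddSubgroup.eq_top_of_card_eq
    have h1 := φ.ker.card_mul_index
    rw [AddSubgroup.index_ker, hker, hW] at h1
    rw [hdual]
    exact Nat.eq_of_mul_eq_mul_left hrpos h1
  let C : AddSubgroup (AddChar M ℂ) := {
    carrier := {χ | ∀ a ∈ B, χ a = 1}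
    zero_mem' := fun a _ => rfl
    add_mem' := by
      intro χ χ' h h' a ha
      rw [AddChar.add_apply, h a ha, h' a ha, mul_one]
    neg_mem' := by
      intro χ h a ha
      rw [AddChar.neg_apply, h _ (B.neg_mem ha)] }
  have hC : Nat.card C = B.index := card_char B
  have h1 : Nat.card (C.comap φ) = Nat.card {w // ∀ a ∈ B, f w a = 1} :=
    Nat.card_congr (Equiv.subtypeEquivRight fun w => Iff.rfl)
  rw [← h1]
  have h2 := (C.comap φ).card_mul_index
  rw [AddSubgroup.index_comap_of_surjective C hsurj, hW] at h2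
  have h3 := C.card_mul_index
  rw [hC, hdual] at h3
  have h4 : 0 < C.index := Nat.pos_of_ne_zero AddSubgroup.index_ne_zero_of_finite
  apply Nat.eq_of_mul_eq_mul_right h4
  rw [h2, ← h3]
  ring

end Char

end Cfsg.Agent.H79.OrbitDual
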